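import Groth.Agent.Deform.HomMT.Chart
import Groth.Agent.GrpSchLib.HomSplitLocal
import Groth.Agent.GrpSchLib.SubgroupFactor
import Groth.Prelude.Def_AutFam
import Mathlib.AlgebraicGeometry.Morphisms.Smooth

/-!
# Families of homomorphisms over affine test schemes

When `H` is given by characters and `G` by an affine Hopf algebra over a test ring `R`, a morphism `H ×_S T ⟶ G` over an
affine `T = Spec B` is an algebra map `ψ : A → B[M]`, and it is a family of homomorphisms exactly when `ψ` is compatible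
with the comultiplications.
-/

set_option autoImplicit false

universe u

open CategoryTheory CategoryTheory.Limits MonoidalCategory CartesianMonoidalCategory MonObj GrpObj AlgebraicGeometry
open TensorProduct WithConv

namespace Groth.Agent.Deform.HomMT

open GrpSchLib GrpSchLib.DiagActionRigid DSPtsLib

variable {S : Scheme.{u}} {R : Type u} [CommRing R]

/-- Coordinates: `H` through characters, `G` through a Hopf algebra. -/
structure Coords (H G : Over S) [GrpObj H] [GrpObj G] (β : Spec (CommRingCat.of R) ⟶ S) (M : Type) [AddCommGroup M]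
    (A : Type u) [CommRing A] [Bialgebra R A] where
  /-- the points of `H` -/
  χ : ∀ (T : Type u) [CommRing T] [Algebra R T], (CoordM.{u} M →+* T) → (DiagActionRigid.sp β T ⟶ H)
  χ_nat : ∀ {T T' : Type u} [CommRing T] [Algebra R T] [CommRing T'] [Algebra R T'] (φ : T →ₐ[R] T')
    (c : CoordM.{u} M →+* T), spm β φ ≫ χ T c = χ T' (φ.toRingHom.comp c)
  χ_mul : ∀ {T : Type u} [CommRing T] [Algebra R T] (c c' d : CoordM.{u} M →+* T),
    (∀ m, d (MonoidAlgebra.single m 1) = c (MonoidAlgebra.single m 1) * c' (MonoidAlgebra.single m 1)) →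
      χ T c * χ T c' = χ T d
  χ_bij : ∀ (T : Type u) [CommRing T] [Algebra R T], Function.Bijective (χ T)
  /-- the points of `G` -/
  γG : ∀ (T : Type u) [CommRing T] [Algebra R T], (A →ₐ[R] T) → (DiagActionRigid.sp β T ⟶ G)
  γ_nat : ∀ {T T' : Type u} [CommRing T] [Algebra R T] [CommRing T'] [Algebra R T'] (φ : T →ₐ[R] T')
    (f : A →ₐ[R] T), spm β φ ≫ γG T f = γG T' (φ.comp f)
  γ_mul : ∀ {T : Type u} [CommRing T] [Algebra R T] (f g : A →ₐ[R] T),
    γG T f * γG T g = γG T (toConv f * toConv g).ofConv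
  γ_bij : ∀ (T : Type u) [CommRing T] [Algebra R T], Function.Bijective (γG T)

/-- An affine smooth group has coordinates by a smooth Hopf algebra, a split group by characters. -/
theorem exists_coords (H G : Over S) [GrpObj H] [GrpObj G] [IsAffineHom G.hom] [Smooth G.hom]
    (β : Spec (CommRingCat.of R) ⟶ S) {M : Type} [AddCommGroup M]
    (eH : Grp.mk (Red.bc β H) ≅ Grp.mk (Red.DS (Spec (CommRingCat.of R)) M)) :
    ∃ (A : Type u) (_ : CommRing A) (_ : HopfAlgebra R A),
      Algebra.Smooth R A ∧ Nonempty (Coords H G β M A) := by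
  obtain ⟨χ, hnat, hmul, hbij⟩ := SubgroupFactor.exists_char (β := β) β eH (𝟙 _) (Category.id_comp _)
  haveI : IsAffineHom (pullback.snd G.hom β) := MorphismProperty.pullback_snd _ _ inferInstance
  haveI : IsAffine (Red.bc β G).left := isAffine_of_isAffineHom (pullback.snd G.hom β)
  obtain ⟨A, iA, hopA, ⟨e⟩⟩ := AffineHopf.exists_hopf (Red.bc β G)
  let ei : AffineHopf.sp R A ≅ Red.bc β G := (Grp.forget _).mapIso e
  haveI : IsMonHom ei.hom := e.hom.hom.isMonHom_hom
  have hsm : Algebra.Smooth R A := by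
    haveI : IsIso ei.hom.left := inferInstanceAs (IsIso ((Over.forget _).map ei.hom))
    haveI : Smooth (Red.bc β G).hom := inferInstanceAs (Smooth (pullback.snd G.hom β))
    have h : Smooth (AffineHopf.sp R A).hom := by rw [← Over.w ei.hom]; infer_instance
    exact RingHom.smooth_algebraMap.mp ((HasRingHomProperty.Spec_iff (P := @Smooth)).mp h)
  let tr : ∀ (T : Type u) [CommRing T] [Algebra R T],
      DiagActionRigid.sp β T ⟶ (Over.map β).obj (AffineHopf.sp R T) :=
    fun T _ _ => Over.homMk (𝟙 _) (Category.id_comp _)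
  have htr : ∀ (T : Type u) [CommRing T] [Algebra R T], IsIso (tr T) := fun T _ _ => by
    haveI : IsIso ((Over.forget S).map (tr T)) := inferInstanceAs (IsIso (𝟙 _))
    exact isIso_of_reflects_iso _ (Over.forget S)
  refine ⟨A, iA, hopA, hsm, ⟨{
    χ := χ
    χ_nat := hnat
    χ_mul := hmul
    χ_bij := hbij
    γG := fun T _ _ f => tr T ≫ DSPtsLib.theta β (AffineHopf.spMap f ≫ ei.hom)
    γ_nat := fun {T T'} _ _ _ _ φ f => ?_
    γ_mul := fun {T} _ _ f g => ?_
    γ_bij := fun T _ _ => ?_ }⟩⟩
  · have h : spm β φ ≫ tr T = tr T' ≫ (Over.map β).map (AffineHopf.spMap φ) := by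
      refine Over.OverMorphism.ext ?_
      show Spec.map _ ≫ 𝟙 _ = 𝟙 _ ≫ Spec.map _
      rw [Category.id_comp, Category.comp_id]
    show spm β φ ≫ tr T ≫ _ = tr T' ≫ _
    rw [← Category.assoc, h, Category.assoc, ← DSPtsLib.theta_comp, ← Category.assoc (AffineHopf.spMap φ),
      AffineHopf.spMap_comp]
  · show tr T ≫ _ * tr T ≫ _ = tr T ≫ _
    rw [← MonObj.comp_mul, ← DSPtsLib.theta_mul, ← MonObj.mul_comp, AffineHopf.spMap_mul]
  · refine ⟨fun f g h => ?_, fun p => ?_⟩
    · have h1 := (DSPtsLib.theta_bijective β).1 ((cancel_epi (tr T)).mp h)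
      exact AffineHopf.spMap_injective ((cancel_mono ei.hom).mp h1)
    · obtain ⟨q, hq⟩ := (DSPtsLib.theta_bijective β (H := G)).2 (inv (tr T) ≫ p)
      obtain ⟨f, hf⟩ := AffineHopf.exists_eq_spMap (q ≫ ei.inv)
      refine ⟨f, ?_⟩
      show tr T ≫ _ = p
      rw [← hf, Category.assoc, Iso.inv_hom_id, Category.comp_id, hq, IsIso.hom_inv_id_assoc]

variable {H G : Over S} [GrpObj H] [GrpObj G] {β : Spec (CommRingCat.of R) ⟶ S} {M : Type} [AddCommGroup M]
  {A : Type u} [CommRing A] [Bialgebra R A] (K : Coords H G β M A)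

section Test

variable (B : Type u) [CommRing B] [Algebra R B]

/-- The universal point of `H` over an affine test scheme. -/
noncomputable def qmap : DiagActionRigid.sp β (MA M B) ⟶ H ⊗ DiagActionRigid.sp β B :=
  lift (K.χ _ (univPt B (AddMonoidHom.id M))) (spm β (IsScalarTower.toAlgHom R B (MA M B)))

theorem qmap_fst : qmap K B ≫ fst _ _ = K.χ _ (univPt B (AddMonoidHom.id M)) := lift_fst _ _

theorem qmap_snd : qmap K B ≫ snd _ _ = spm β (IsScalarTower.toAlgHom R B (MA M B)) := lift_snd _ _

/-- The universal point is an isomorphism. -/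
theorem isIso_qmap : IsIso (qmap K B) := by
  suffices IsIso (qmap K B).left by
    haveI : IsIso ((Over.forget S).map (qmap K B)) := this
    exact isIso_of_reflects_iso _ (Over.forget S)
  refine HomSplitLocal.isIso_of_affine_points _ fun B' y => ?_
  obtain ⟨τ, hτ⟩ : ∃ τ, Spec.map τ = y ≫ (snd H (DiagActionRigid.sp β B)).left := ⟨_, Spec.map_preimage _⟩
  letI : Algebra B B' := τ.hom.toAlgebra
  letI : Algebra R B' := ((algebraMap B B').comp (algebraMap R B)).toAlgebra
  haveI : IsScalarTower R B B' := IsScalarTower.of_algebraMap_eq' rfl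
  let pt' : DiagActionRigid.sp β B' ⟶ H ⊗ DiagActionRigid.sp β B := Over.homMk y (by
    rw [← Over.w (snd H (DiagActionRigid.sp β B)), ← Category.assoc, ← hτ]
    show Spec.map τ ≫ Spec.map _ ≫ β = Spec.map _ ≫ β
    rw [← Spec.map_comp_assoc]
    rfl)
  have hsnd : pt' ≫ snd _ _ = spm β (IsScalarTower.toAlgHom R B B') := Over.OverMorphism.ext hτ.symm
  obtain ⟨c, hc⟩ := (K.χ_bij B').2 (pt' ≫ fst _ _)
  have key : ∀ f : MA M B →ₐ[B] B', spm β (f.restrictScalars R) ≫ qmap K B =
      lift (K.χ B' (f.toRingHom.comp (univPt B (AddMonoidHom.id M)))) (spm β (IsScalarTower.toAlgHom R B B')) := by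
    intro f
    rw [qmap, comp_lift, K.χ_nat]
    congr 1
    refine Over.OverMorphism.ext ?_
    show Spec.map _ ≫ Spec.map _ = Spec.map _
    rw [← Spec.map_comp, ← CommRingCat.ofHom_comp]
    congr 2
    exact f.comp_algebraMap
  have hpt : pt' = lift (K.χ B' c) (spm β (IsScalarTower.toAlgHom R B B')) := by
    rw [hc, ← hsnd, ← comp_lift, lift_fst_snd, Category.comp_id]
  refine ⟨Spec.map (CommRingCat.ofHom (HomKernelIdeal.evalChar (R := B) c).toRingHom), ?_, ?_⟩
  · have h := key (HomKernelIdeal.evalChar (R := B) c)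
    rw [HomKernelIdeal.evalChar_univ, ← hpt] at h
    exact congrArg CommaMorphism.left h
  · intro x hx
    obtain ⟨ρ, rfl⟩ : ∃ ρ, Spec.map ρ = x := ⟨_, Spec.map_preimage x⟩
    have h2 : Spec.map ρ ≫ (qmap K B ≫ snd _ _).left = Spec.map τ := by
      rw [hτ, Over.comp_left, ← Category.assoc, hx]
    rw [qmap_snd, spm_left, ← Spec.map_comp] at h2
    let f : MA M B →ₐ[B] B' :=
      { ρ.hom with commutes' := fun r => congr($(Spec.map_injective h2) r) }
    have h4 : spm β (f.restrictScalars R) ≫ qmap K B = pt' := Over.OverMorphism.ext hx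
    rw [key f, hpt] at h4
    have h3 := congrArg (fun m => m ≫ fst _ _) h4
    simp only [lift_fst] at h3
    have h5 := (K.χ_bij B').1 h3
    have hf : f = HomKernelIdeal.evalChar (R := B) c := MonoidAlgebra.algHom_ext (fun m => by
      rw [HomKernelIdeal.evalChar_single, ← h5]
      show f (MonoidAlgebra.single m 1) = f (univPt B (AddMonoidHom.id M) (MonoidAlgebra.single m 1))
      rw [univPt_single]
      rfl) (Subsingleton.elim _ _)
    rw [← hf]
    rfl

/-- The morphism of an algebra map. -/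
noncomputable def fam (ψ : A →ₐ[R] MA M B) : H ⊗ DiagActionRigid.sp β B ⟶ G :=
  haveI := isIso_qmap K B
  inv (qmap K B) ≫ K.γG _ ψ

theorem qmap_fam (ψ : A →ₐ[R] MA M B) : qmap K B ≫ fam K B ψ = K.γG _ ψ := by
  haveI := isIso_qmap K B
  exact IsIso.hom_inv_id_assoc _ _

theorem fam_bijective : Function.Bijective (fam K B) := by
  haveI := isIso_qmap K B
  refine ⟨fun ψ ψ' h => (K.γ_bij _).1 ((cancel_epi (inv (qmap K B))).mp h), fun φ => ?_⟩
  obtain ⟨ψ, hψ⟩ := (K.γ_bij _).2 (qmap K B ≫ φ)
  exact ⟨ψ, (cancel_epi (qmap K B)).mp ((qmap_fam K B ψ).trans hψ)⟩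

variable {B} {C : Type u} [CommRing C] [Algebra R C] [Algebra B C] [IsScalarTower R B C]

/-- Evaluation at a point. -/
noncomputable def evA (c : CoordM.{u} M →+* C) : MA M B →ₐ[R] C :=
  (HomKernelIdeal.evalChar (R := B) c).restrictScalars R

theorem evA_single (c : CoordM.{u} M →+* C) (m : Multiplicative M) :
    evA (R := R) (B := B) c (MonoidAlgebra.single m 1) = c (MonoidAlgebra.single m 1) :=
  HomKernelIdeal.evalChar_single c m

/-- The value of a family at a point. -/
theorem lift_fam (ψ : A →ₐ[R] MA M B) (c : CoordM.{u} M →+* C) :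
    lift (K.χ C c) (spm β (IsScalarTower.toAlgHom R B C)) ≫ fam K B ψ = K.γG C ((evA c).comp ψ) := by
  have h : spm β (evA (R := R) (B := B) c) ≫ qmap K B =
      lift (K.χ C c) (spm β (IsScalarTower.toAlgHom R B C)) := by
    rw [qmap, comp_lift, K.χ_nat]
    congr 1
    · rw [show (evA (R := R) (B := B) c).toRingHom.comp (univPt B (AddMonoidHom.id M)) = c from
        HomKernelIdeal.evalChar_univ c]
    · refine Over.OverMorphism.ext ?_
      show Spec.map _ ≫ Spec.map _ = Spec.map _
      rw [← Spec.map_comp, ← CommRingCat.ofHom_comp]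
      congr 2
      exact (HomKernelIdeal.evalChar (R := B) c).comp_algebraMap
  rw [← h, Category.assoc, qmap_fam, K.γ_nat]

end Test

variable {B : Type u} [CommRing B] [Algebra R B] {C : Type u} [CommRing C] [Algebra R C] [Algebra B C]
  [IsScalarTower R B C]

omit [Bialgebra R A] [CommRing A] in
theorem coord_prod (R : Type u) [CommRing R] [Algebra R C] (c c' : CoordM.{u} M →+* C) :
    ∃ d : CoordM.{u} M →+* C,
      ∀ m, d (MonoidAlgebra.single m 1) = c (MonoidAlgebra.single m 1) * c' (MonoidAlgebra.single m 1) := by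
  let f : Multiplicative M →* C :=
    { toFun := fun m => c (MonoidAlgebra.single m 1) * c' (MonoidAlgebra.single m 1)
      map_one' := by rw [← MonoidAlgebra.one_def, map_one, map_one, _root_.mul_one]
      map_mul' := fun m n => by
        rw [show (MonoidAlgebra.single (m * n) (1 : ULift.{u} ℤ) : CoordM.{u} M) =
          MonoidAlgebra.single m 1 * MonoidAlgebra.single n 1 by
            rw [MonoidAlgebra.single_mul_single, _root_.mul_one], map_mul, map_mul, _root_.mul_mul_mul_comm] }
  exact ⟨HomMonoLocus.charOf (R := R) f, fun m => HomMonoLocus.charOf_single f m⟩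

/-- At the values: a compatible algebra map gives products. -/
theorem mult_points {ψ : A →ₐ[R] MA M B} (h : Mult ψ) (c₁ c₂ d : CoordM.{u} M →+* C)
    (hd : ∀ m, d (MonoidAlgebra.single m 1) = c₁ (MonoidAlgebra.single m 1) * c₂ (MonoidAlgebra.single m 1)) :
    (toConv ((evA c₁).comp ψ) * toConv ((evA c₂).comp ψ)).ofConv = (evA d).comp ψ := by
  let f : Multiplicative M × Multiplicative M →* C :=
    ((c₁ : CoordM.{u} M →* C).comp (MonoidAlgebra.of (ULift.{u} ℤ) (Multiplicative M))).coprod
      ((c₂ : CoordM.{u} M →* C).comp (MonoidAlgebra.of (ULift.{u} ℤ) (Multiplicative M)))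
  let E : MA2 M B →ₐ[R] C :=
    (MonoidAlgebra.lift B C (Multiplicative M × Multiplicative M) f).restrictScalars R
  have hτ : ∀ (τ : Multiplicative M →* Multiplicative M × Multiplicative M) (c : CoordM.{u} M →+* C),
      (∀ m, f (τ m) = c (MonoidAlgebra.single m 1)) →
        E.comp (MonoidAlgebra.mapDomainAlgHom R B τ) = evA c := fun τ c hc => AlgHom.ext fun x => by
    induction x using MonoidAlgebra.induction_linear with
    | zero => simp
    | add x y hx hy => rw [map_add, map_add, hx, hy]
    | single m r =>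
      show MonoidAlgebra.lift B C _ f (MonoidAlgebra.mapDomain τ (MonoidAlgebra.single m r)) =
        MonoidAlgebra.lift B C _ _ (MonoidAlgebra.single m r)
      rw [MonoidAlgebra.mapDomain_single, MonoidAlgebra.lift_single, MonoidAlgebra.lift_single, hc]
      rfl
  have one' : ∀ c : CoordM.{u} M →+* C, c (MonoidAlgebra.single (1 : Multiplicative M) 1) = 1 := fun c => by
    rw [← MonoidAlgebra.one_def, map_one]
  have h' := congrArg E.comp h
  rw [AlgHom.comp_convMul_distrib, ofConv_toConv, ofConv_toConv, ← AlgHom.comp_assoc, ← AlgHom.comp_assoc,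
    ← AlgHom.comp_assoc,
    hτ _ c₁ (fun m => by
      show c₁ (MonoidAlgebra.single m 1) * c₂ (MonoidAlgebra.single 1 1) = _
      rw [one', _root_.mul_one]),
    hτ _ c₂ (fun m => by
      show c₁ (MonoidAlgebra.single 1 1) * c₂ (MonoidAlgebra.single m 1) = _
      rw [one', _root_.one_mul]),
    hτ _ d (fun m => (hd m).symm)] at h'
  exact h'

set_option maxHeartbeats 1000000 in
/-- The families of homomorphisms are the compatible algebra maps. -/
theorem isHomFamily_fam (ψ : A →ₐ[R] MA M B) : AutFam.IsHomFamily H G (fam K B ψ) ↔ Mult ψ := by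
  refine ⟨fun h => ?_, fun h X g₁ g₂ t => ?_⟩
  · letI : Algebra B (MA2 M B) := inferInstance
    let c : (Multiplicative M →* Multiplicative M × Multiplicative M) → (CoordM.{u} M →+* MA2 M B) :=
      fun τ => (MonoidAlgebra.mapDomainAlgHom R B τ).toRingHom.comp (univPt B (AddMonoidHom.id M))
    have hc : ∀ τ m, c τ (MonoidAlgebra.single m 1) = MonoidAlgebra.single (τ m) 1 := fun τ m => by
      show MonoidAlgebra.mapDomain τ (univPt B (AddMonoidHom.id M) (MonoidAlgebra.single m 1)) = _
      rw [univPt_single, MonoidAlgebra.mapDomain_single]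
      rfl
    have hev : ∀ τ, evA (R := R) (B := B) (c τ) = MonoidAlgebra.mapDomainAlgHom R B τ := fun τ => AlgHom.ext fun x => by
      induction x using MonoidAlgebra.induction_linear with
      | zero => simp
      | add x y hx hy => rw [map_add, map_add, hx, hy]
      | single m r =>
        show MonoidAlgebra.lift B (MA2 M B) _ _ (MonoidAlgebra.single m r) =
          MonoidAlgebra.mapDomain τ (MonoidAlgebra.single m r)
        rw [MonoidAlgebra.lift_single, MonoidAlgebra.mapDomain_single]
        show r • c τ (MonoidAlgebra.single m 1) = _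
        rw [hc]
        simp
    have h1 := h (DiagActionRigid.sp β (MA2 M B)) (K.χ _ (c (MonoidHom.inl _ _))) (K.χ _ (c (MonoidHom.inr _ _)))
      (spm β (IsScalarTower.toAlgHom R B (MA2 M B)))
    rw [K.χ_mul _ _ (c ((MonoidHom.id (Multiplicative M)).prod (MonoidHom.id (Multiplicative M)))) (fun m => by
        rw [hc, hc, hc, MonoidAlgebra.single_mul_single, _root_.mul_one]
        simp),
      lift_fam, lift_fam, lift_fam, K.γ_mul, hev, hev, hev] at h1
    exact ((K.γ_bij _).1 h1).symm
  · refine Over.OverMorphism.ext (Scheme.Cover.hom_ext X.left.affineCover _ _ fun i => ?_)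
    obtain ⟨C, hC⟩ : ∃ C : CommRingCat.{u}, X.left.affineCover.X i = Spec C := ⟨_, rfl⟩
    rw [← cancel_epi (eqToHom hC.symm)]
    simp only [← Category.assoc]
    let j : Spec C ⟶ X.left := eqToHom hC.symm ≫ X.left.affineCover.f i
    obtain ⟨τ, hτ⟩ : ∃ τ, Spec.map τ = j ≫ t.left := ⟨_, Spec.map_preimage _⟩
    letI : Algebra B C := τ.hom.toAlgebra
    letI : Algebra R C := ((algebraMap B C).comp (algebraMap R B)).toAlgebra
    haveI : IsScalarTower R B C := IsScalarTower.of_algebraMap_eq' rfl
    let e : DiagActionRigid.sp β C ⟶ X := Over.homMk j (by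
      rw [← Over.w t, ← Category.assoc, ← hτ]
      show Spec.map τ ≫ Spec.map _ ≫ β = Spec.map _ ≫ β
      rw [← Spec.map_comp_assoc]
      rfl)
    have het : e ≫ t = spm β (IsScalarTower.toAlgHom R B C) := Over.OverMorphism.ext hτ.symm
    suffices hs : e ≫ lift (g₁ * g₂) t ≫ fam K B ψ = e ≫ ((lift g₁ t ≫ fam K B ψ) * (lift g₂ t ≫ fam K B ψ)) from
      congrArg CommaMorphism.left hs
    simp only [MonObj.comp_mul, comp_lift_assoc, het]
    obtain ⟨c₁, hc₁⟩ := (K.χ_bij C).2 (e ≫ g₁)
    obtain ⟨c₂, hc₂⟩ := (K.χ_bij C).2 (e ≫ g₂)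
    obtain ⟨d, hd⟩ := coord_prod R c₁ c₂
    rw [← hc₁, ← hc₂, K.χ_mul c₁ c₂ d hd, lift_fam, lift_fam, lift_fam, K.γ_mul, mult_points h c₁ c₂ d hd]

/-- Functoriality. -/
theorem whisker_fam {B' : Type u} [CommRing B'] [Algebra R B'] (σ : B →ₐ[R] B') (ψ : A →ₐ[R] MA M B) :
    (H ◁ spm β σ) ≫ fam K B ψ = fam K B' ((push σ).comp ψ) := by
  haveI := isIso_qmap K B'
  rw [← cancel_epi (qmap K B'), qmap_fam, ← K.γ_nat, ← qmap_fam K B ψ, ← Category.assoc, ← Category.assoc]
  congr 1
  rw [qmap, lift_whiskerLeft, qmap, comp_lift, K.χ_nat]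
  congr 1
  · congr 1
    refine DiagActionRigid.coord_ext fun m => ?_
    show univPt B' (AddMonoidHom.id M) (MonoidAlgebra.single m 1) =
      push σ (univPt B (AddMonoidHom.id M) (MonoidAlgebra.single m 1))
    rw [univPt_single, univPt_single, push_single, map_one]
  · refine Over.OverMorphism.ext ?_
    show Spec.map _ ≫ Spec.map _ = Spec.map _ ≫ Spec.map _
    rw [← Spec.map_comp, ← Spec.map_comp, ← CommRingCat.ofHom_comp, ← CommRingCat.ofHom_comp]
    congr 2
    refine RingHom.ext fun b => ?_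
    show algebraMap B' (MA M B') (σ b) = push σ (algebraMap B (MA M B) b)
    simp [MonoidAlgebra.coe_algebraMap, push_single]

end Groth.Agent.Deform.HomMT
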