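import Groth.Agent.Deform.HomMT.Stable
import Mathlib.RingTheory.Bialgebra.Convolution
import Mathlib.RingTheory.FinitePresentation
import Mathlib.RingTheory.Localization.Away.AdjoinRoot
import Mathlib.RingTheory.HopfAlgebra.MonoidAlgebra
import Mathlib.LinearAlgebra.Matrix.NonsingularInverse

/-!
# The affine charts of the scheme of homomorphisms from a diagonalisable group

A homomorphism `D(M) ⟶ Spec A` over `B` is an algebra map `ψ : A → B[M]` compatible with the comultiplications.
With `Δ (v j) = ∑ i, v i ⊗ a i j` the coefficients satisfy `ψ_m(v) (1 - ψ_m(a)) = 0`. For a finite `F ⊆ M` the chart is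
cut out by asking `det (1 - ψ_m(a))` to be invertible for `m` outside `F`: this is a principal open condition, it
implies that the coefficients of the `v j` vanish outside `F`, and it is represented by an algebra of finite
presentation.
-/

set_option autoImplicit false

universe u

open TensorProduct WithConv
open scoped Matrix

namespace Groth.Agent.Deform.HomMT

section Maps

variable (R : Type u) [CommRing R] (M : Type) [AddCommGroup M]

/-- The coordinate ring of `D(M)` over `B`. -/
abbrev MA (B : Type u) [CommRing B] : Type u := MonoidAlgebra B (Multiplicative M)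

/-- The coordinate ring of `D(M) × D(M)` over `B`. -/
abbrev MA2 (B : Type u) [CommRing B] : Type u := MonoidAlgebra B (Multiplicative M × Multiplicative M)

variable (B : Type u) [CommRing B] [Algebra R B]

/-- The first projection. -/
noncomputable abbrev inlA : MA M B →ₐ[R] MA2 M B :=
  MonoidAlgebra.mapDomainAlgHom R B (MonoidHom.inl (Multiplicative M) (Multiplicative M))

/-- The second projection. -/
noncomputable abbrev inrA : MA M B →ₐ[R] MA2 M B :=
  MonoidAlgebra.mapDomainAlgHom R B (MonoidHom.inr (Multiplicative M) (Multiplicative M))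

/-- The multiplication. -/
noncomputable abbrev dgnA : MA M B →ₐ[R] MA2 M B :=
  MonoidAlgebra.mapDomainAlgHom R B
    ((MonoidHom.id (Multiplicative M)).prod (MonoidHom.id (Multiplicative M)))

variable {R M B}

omit [AddCommGroup M] in
theorem coeff_mapDomain_of_injective {N P : Type} (τ : N → P) (hτ : Function.Injective τ)
    (x : MonoidAlgebra B N) (n : N) : (MonoidAlgebra.mapDomain τ x).coeff (τ n) = x.coeff n :=
  Finsupp.mapDomain_apply hτ _ _

theorem coeff_inl_mul_inr (p q : MA M B) (m n : Multiplicative M) :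
    (inlA R M B p * inrA R M B q).coeff (m, n) = p.coeff m * q.coeff n := by
  induction p using MonoidAlgebra.induction_linear with
  | zero => simp
  | add p p' hp hp' =>
    rw [map_add, add_mul, MonoidAlgebra.coeff_add, Finsupp.add_apply, hp, hp', MonoidAlgebra.coeff_add,
      Finsupp.add_apply, add_mul]
  | single x r =>
    induction q using MonoidAlgebra.induction_linear with
    | zero => simp
    | add q q' hq hq' =>
      rw [map_add, mul_add, MonoidAlgebra.coeff_add, Finsupp.add_apply, hq, hq', MonoidAlgebra.coeff_add,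
        Finsupp.add_apply, mul_add]
    | single y s =>
      classical
      show (MonoidAlgebra.mapDomain (MonoidHom.inl (Multiplicative M) (Multiplicative M)) (MonoidAlgebra.single x r) *
        MonoidAlgebra.mapDomain (MonoidHom.inr (Multiplicative M) (Multiplicative M))
          (MonoidAlgebra.single y s)).coeff (m, n) = _
      rw [MonoidAlgebra.mapDomain_single, MonoidAlgebra.mapDomain_single, MonoidAlgebra.single_mul_single]
      by_cases h1 : x = m <;> by_cases h2 : y = n <;> simp [Finsupp.single_apply, Prod.ext_iff, h1, h2]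

theorem coeff_dgn (p : MA M B) (m : Multiplicative M) : (dgnA R M B p).coeff (m, m) = p.coeff m :=
  coeff_mapDomain_of_injective _ (fun _ _ h => congrArg Prod.fst h) p m

end Maps

section Points

variable {R : Type u} [CommRing R] {A : Type u} [CommRing A] [Bialgebra R A] {M : Type} [AddCommGroup M]
  {B B' : Type u} [CommRing B] [Algebra R B] [CommRing B'] [Algebra R B']

/-- An algebra map compatible with the comultiplications. -/
def Mult (ψ : A →ₐ[R] MA M B) : Prop :=
  (toConv ((inlA R M B).comp ψ) * toConv ((inrA R M B).comp ψ)).ofConv = (dgnA R M B).comp ψ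

/-- A change of coefficients. -/
noncomputable abbrev push (σ : B →ₐ[R] B') : MA M B →ₐ[R] MA M B' := MonoidAlgebra.mapAlgHom _ σ

theorem Mult.map {ψ : A →ₐ[R] MA M B} (h : Mult ψ) (σ : B →ₐ[R] B') : Mult ((push σ).comp ψ) := by
  let σ₂ : MA2 M B →ₐ[R] MA2 M B' := MonoidAlgebra.mapAlgHom _ σ
  have e : ∀ (τ : Multiplicative M →* Multiplicative M × Multiplicative M),
      σ₂.comp (MonoidAlgebra.mapDomainAlgHom R B τ) = (MonoidAlgebra.mapDomainAlgHom R B' τ).comp (push σ) :=
    fun τ => AlgHom.ext fun x => by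
      induction x using MonoidAlgebra.induction_linear with
      | zero => simp
      | add x y hx hy => rw [map_add, map_add, hx, hy]
      | single g r => simp [σ₂, push, MonoidAlgebra.mapAlgHom, MonoidAlgebra.mapDomainAlgHom]
  have h' := congrArg σ₂.comp h
  rw [AlgHom.comp_convMul_distrib, ofConv_toConv, ofConv_toConv, ← AlgHom.comp_assoc, ← AlgHom.comp_assoc,
    ← AlgHom.comp_assoc, e, e, e] at h'
  exact h'

end Points

/-- Algebra generators with `Δ (v j) = ∑ i, v i ⊗ a i j`. -/
structure Stable (R A : Type u) [CommRing R] [CommRing A] [Bialgebra R A] where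
  /-- the number of generators -/
  n : ℕ
  /-- the generators -/
  v : Fin n → A
  /-- the coefficients -/
  a : Fin n → Fin n → A
  gen : Algebra.adjoin R (Set.range v) = ⊤
  comul_v : ∀ j, Coalgebra.comul (R := R) (v j) = ∑ i, v i ⊗ₜ[R] a i j

/-- A smooth bialgebra has such generators. -/
theorem nonempty_stable (R A : Type u) [CommRing R] [CommRing A] [Bialgebra R A] [Algebra.Smooth R A] :
    Nonempty (Stable R A) :=
  let ⟨n, v, a, hgen, hv⟩ := exists_stable (R := R) (A := A)
  ⟨⟨n, v, a, hgen, hv⟩⟩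

section Good

variable {R : Type u} [CommRing R] {A : Type u} [CommRing A] [Bialgebra R A] {M : Type} [AddCommGroup M]
  (D : Stable R A) {B B' : Type u} [CommRing B] [Algebra R B] [CommRing B'] [Algebra R B']

/-- The coefficient of `e_m`. -/
noncomputable abbrev coef (ψ : A →ₐ[R] MA M B) (m : M) (x : A) : B := (ψ x).coeff (Multiplicative.ofAdd m)

/-- The determinant of `1 - ψ_m(a)`. -/
noncomputable def rho (ψ : A →ₐ[R] MA M B) (m : M) : B :=
  (1 - Matrix.of fun i j => coef ψ m (D.a i j)).det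

theorem rho_map (ψ : A →ₐ[R] MA M B) (σ : B →ₐ[R] B') (m : M) :
    rho D ((push σ).comp ψ) m = σ (rho D ψ m) := by
  rw [rho, rho, AlgHom.map_det]
  congr 1
  ext i j
  rcases eq_or_ne i j with rfl | h
  · simp [coef, push]
  · simp [coef, push, Matrix.one_apply_ne h]

/-- The homomorphisms in the chart of `F`. -/
def Good (F : Finset M) (ψ : A →ₐ[R] MA M B) : Prop := ∀ m ∉ F, IsUnit (rho D ψ m)

theorem Good.mono {F G : Finset M} (hFG : F ⊆ G) {ψ : A →ₐ[R] MA M B} (h : Good D F ψ) : Good D G ψ :=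
  fun m hm => h m fun hm' => hm (hFG hm')

theorem Good.map {F : Finset M} {ψ : A →ₐ[R] MA M B} (h : Good D F ψ) (σ : B →ₐ[R] B') :
    Good D F ((push σ).comp ψ) := fun m hm => by
  rw [rho_map]
  exact (h m hm).map σ

theorem good_inter [DecidableEq M] {F G : Finset M} {ψ : A →ₐ[R] MA M B} (hF : Good D F ψ) (hG : Good D G ψ) :
    Good D (F ∩ G) ψ := fun m hm => by
  by_cases h : m ∈ F
  · exact hG m fun h' => hm (Finset.mem_inter.mpr ⟨h, h'⟩)
  · exact hF m h

open Classical in
/-- The support of the coefficients of the `a i j`. -/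
noncomputable def suppA (ψ : A →ₐ[R] MA M B) : Finset M :=
  Finset.univ.biUnion fun i => Finset.univ.biUnion fun j => (ψ (D.a i j)).coeff.support.image Multiplicative.toAdd

theorem rho_eq_one {ψ : A →ₐ[R] MA M B} {m : M} (hm : m ∉ suppA D ψ) : rho D ψ m = 1 := by
  classical
  have h : (Matrix.of fun i j => coef ψ m (D.a i j)) = 0 := by
    ext i j
    show coef ψ m (D.a i j) = 0
    by_contra hne
    exact hm (Finset.mem_biUnion.mpr ⟨i, Finset.mem_univ _, Finset.mem_biUnion.mpr ⟨j, Finset.mem_univ _,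
      Finset.mem_image.mpr ⟨Multiplicative.ofAdd m, Finsupp.mem_support_iff.mpr hne, rfl⟩⟩⟩)
  rw [rho, h, sub_zero, Matrix.det_one]

theorem good_suppA (ψ : A →ₐ[R] MA M B) : Good D (suppA D ψ) ψ := fun m hm => by
  rw [rho_eq_one D hm]
  exact isUnit_one

open Classical in
/-- The function whose invertibility defines the chart. -/
noncomputable def goodProd (F : Finset M) (ψ : A →ₐ[R] MA M B) : B := ∏ m ∈ suppA D ψ \ F, rho D ψ m

theorem good_map_iff (F : Finset M) (ψ : A →ₐ[R] MA M B) (σ : B →ₐ[R] B') :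
    Good D F ((push σ).comp ψ) ↔ IsUnit (σ (goodProd D F ψ)) := by
  classical
  rw [goodProd, map_prod]
  refine ⟨fun h => IsUnit.prod_iff.mpr fun m hm => ?_, fun h m hm => ?_⟩
  · rw [← rho_map]
    exact h m (Finset.mem_sdiff.mp hm).2
  · rw [rho_map]
    by_cases h' : m ∈ suppA D ψ
    · exact IsUnit.prod_iff.mp h m (Finset.mem_sdiff.mpr ⟨h', hm⟩)
    · rw [rho_eq_one D h', map_one]
      exact isUnit_one

/-- The coefficient identity. -/
theorem coef_eq {ψ : A →ₐ[R] MA M B} (h : Mult ψ) (m : M) (j : Fin D.n) :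
    coef ψ m (D.v j) = ∑ i, coef ψ m (D.v i) * coef ψ m (D.a i j) := by
  have h' := congrArg (fun x : MA2 M B => x.coeff (Multiplicative.ofAdd m, Multiplicative.ofAdd m))
    (DFunLike.congr_fun h (D.v j))
  simp only [AlgHom.comp_apply, coeff_dgn] at h'
  rw [coef, ← h', show (toConv ((inlA R M B).comp ψ) * toConv ((inrA R M B).comp ψ)).ofConv (D.v j) =
      (toConv ((inlA R M B).comp ψ) * toConv ((inrA R M B).comp ψ)) (D.v j) from rfl,
    AlgHom.convMul_apply, D.comul_v, map_sum]
  simp only [MonoidAlgebra.coeff_sum, Finsupp.coe_finsetSum, Finset.sum_apply, ofConv_toConv,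
    Algebra.TensorProduct.lift_tmul, AlgHom.comp_apply, coeff_inl_mul_inr]

/-- In the chart of `F` the coefficients of the generators vanish outside `F`. -/
theorem coef_eq_zero {ψ : A →ₐ[R] MA M B} (h : Mult ψ) {F : Finset M} (hF : Good D F ψ) {m : M} (hm : m ∉ F)
    (j : Fin D.n) : coef ψ m (D.v j) = 0 := by
  let Λ : Matrix (Fin D.n) (Fin D.n) B := Matrix.of fun i j => coef ψ m (D.a i j)
  let u : Fin D.n → B := fun j => coef ψ m (D.v j)
  have hu : u ᵥ* (1 - Λ) = 0 := by
    rw [Matrix.vecMul_sub, Matrix.vecMul_one, sub_eq_zero]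
    funext j
    exact coef_eq D h m j
  have h2 : u ᵥ* ((1 - Λ) * (1 - Λ)⁻¹) = 0 := by rw [← Matrix.vecMul_vecMul, hu, Matrix.zero_vecMul]
  rw [Matrix.mul_nonsing_inv _ (hF m hm), Matrix.vecMul_one] at h2
  exact congrFun h2 j

theorem ext_v {C : Type u} [CommRing C] [Algebra R C] {f g : A →ₐ[R] C} (h : ∀ j, f (D.v j) = g (D.v j)) : f = g :=
  AlgHom.ext_of_adjoin_eq_top D.gen fun x ⟨j, hj⟩ => hj ▸ h j

theorem eq_sum_of_vanish (F : Finset M) (x : MA M B)
    (h : ∀ m ∉ F, x.coeff (Multiplicative.ofAdd m) = 0) :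
    x = ∑ m ∈ F, MonoidAlgebra.single (Multiplicative.ofAdd m) (x.coeff (Multiplicative.ofAdd m)) := by
  classical
  ext k
  simp only [MonoidAlgebra.coeff_sum, Finsupp.coe_finsetSum, Finset.sum_apply, MonoidAlgebra.coeff_single,
    Finsupp.single_apply]
  by_cases hk : Multiplicative.toAdd k ∈ F
  · rw [Finset.sum_eq_single (Multiplicative.toAdd k) (fun b _ hb => if_neg fun e => hb (by rw [← e]; rfl))
      (fun h' => absurd hk h')]
    simp
  · rw [Finset.sum_eq_zero fun b hb => if_neg fun e => hk (by rw [← e]; exact hb)]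
    exact h _ hk

/-- A universal homomorphism in the chart of `F`. -/
def IsUniv (F : Finset M) {C : Type u} [CommRing C] [Algebra R C] (ψ : A →ₐ[R] MA M C) : Prop :=
  Mult ψ ∧ Good D F ψ ∧ ∀ (B : Type u) [CommRing B] [Algebra R B] (ψ' : A →ₐ[R] MA M B), Mult ψ' → Good D F ψ' →
    ∃! σ : C →ₐ[R] B, (push σ).comp ψ = ψ'

omit [Bialgebra R A] in
theorem push_comp {C : Type u} [CommRing C] [Algebra R C] (σ : B →ₐ[R] B') (τ : B' →ₐ[R] C) :
    (push (M := M) τ).comp (push σ) = push (τ.comp σ) :=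
  AlgHom.ext fun x => by ext k; simp [push]

/-- The coefficients of the generators vanish outside `F`. -/
def Supported (F : Finset M) (ψ : A →ₐ[R] MA M B) : Prop := ∀ m ∉ F, ∀ j, coef ψ m (D.v j) = 0

theorem eq_sum_coef {F : Finset M} {ψ : A →ₐ[R] MA M B} (h : Supported D F ψ) (j : Fin D.n) :
    ψ (D.v j) = ∑ m : F, MonoidAlgebra.single (Multiplicative.ofAdd (m : M)) (coef ψ m (D.v j)) := by
  rw [Finset.sum_coe_sort F fun m => MonoidAlgebra.single (Multiplicative.ofAdd m) (coef ψ m (D.v j))]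
  exact eq_sum_of_vanish F (ψ (D.v j)) fun m hm => h m hm j

omit [Bialgebra R A] in
theorem push_single (σ : B →ₐ[R] B') (g : Multiplicative M) (r : B) :
    push σ (MonoidAlgebra.single g r) = MonoidAlgebra.single g (σ r) := by
  ext k
  simp [push, Finsupp.single_apply, apply_ite σ]

omit [Bialgebra R A] in
theorem push2_mapDomain (σ : B →ₐ[R] B') (τ : Multiplicative M →* Multiplicative M × Multiplicative M) (x : MA M B) :
    MonoidAlgebra.mapAlgHom (Multiplicative M × Multiplicative M) σ (MonoidAlgebra.mapDomainAlgHom R B τ x) =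
      MonoidAlgebra.mapDomainAlgHom R B' τ (push σ x) := by
  induction x using MonoidAlgebra.induction_linear with
  | zero => simp
  | add x y hx hy => simp only [map_add, hx, hy]
  | single g r => simp [push, MonoidAlgebra.mapAlgHom, MonoidAlgebra.mapDomainAlgHom]

/-- The defect of multiplicativity. -/
noncomputable def defect (ψ : A →ₐ[R] MA M B) (j : Fin D.n) : MA2 M B :=
  (toConv ((inlA R M B).comp ψ) * toConv ((inrA R M B).comp ψ)).ofConv (D.v j) - dgnA R M B (ψ (D.v j))

theorem mult_iff_defect (ψ : A →ₐ[R] MA M B) : Mult ψ ↔ ∀ j, defect D ψ j = 0 :=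
  ⟨fun h j => sub_eq_zero.mpr (DFunLike.congr_fun h (D.v j)),
    fun h => ext_v D fun j => sub_eq_zero.mp (h j)⟩

theorem defect_map (ψ : A →ₐ[R] MA M B) (σ : B →ₐ[R] B') (j : Fin D.n) :
    MonoidAlgebra.mapAlgHom (Multiplicative M × Multiplicative M) σ (defect D ψ j) =
      defect D ((push σ).comp ψ) j := by
  rw [defect, defect, map_sub, push2_mapDomain]
  congr 1
  refine (DFunLike.congr_fun (AlgHom.comp_convMul_distrib
    (MonoidAlgebra.mapAlgHom (Multiplicative M × Multiplicative M) σ) (toConv ((inlA R M B).comp ψ))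
    (toConv ((inrA R M B).comp ψ))) (D.v j)).trans ?_
  rw [ofConv_toConv, ofConv_toConv]
  congr 4 <;> exact AlgHom.ext fun x => push2_mapDomain σ _ _

/-- Algebra maps supported in `F` are represented. -/
theorem exists_supported [Algebra.FinitePresentation R A] (F : Finset M) :
    ∃ (C : Type u) (_ : CommRing C) (_ : Algebra R C) (ψ : A →ₐ[R] MA M C), Algebra.FinitePresentation R C ∧
      ∀ (B : Type u) [CommRing B] [Algebra R B] (ψ' : A →ₐ[R] MA M B), Supported D F ψ' →
        ∃! σ : C →ₐ[R] B, (push σ).comp ψ = ψ' := by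
  classical
  let P := MvPolynomial (Fin D.n × F) R
  let w : Fin D.n → MA M P := fun j =>
    ∑ m : F, MonoidAlgebra.single (Multiplicative.ofAdd (m : M)) (MvPolynomial.X (j, m))
  let π : MvPolynomial (Fin D.n) R →ₐ[R] A := MvPolynomial.aeval D.v
  have hπ : Function.Surjective π := by
    rw [← AlgHom.range_eq_top, ← Algebra.adjoin_range_eq_range_aeval, D.gen]
  obtain ⟨s, hs⟩ := Algebra.FinitePresentation.ker_fG_of_surjective π hπ
  let θ₀ : MvPolynomial (Fin D.n) R →ₐ[R] MA M P := MvPolynomial.aeval w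
  let J₁ : Ideal P := Ideal.span ↑(s.biUnion fun f => (θ₀ f).coeff.support.image (θ₀ f).coeff)
  let q₁ : P →ₐ[R] P ⧸ J₁ := Ideal.Quotient.mkₐ R J₁
  have hker : RingHom.ker π ≤ RingHom.ker ((push q₁).comp θ₀) := by
    show RingHom.ker π.toRingHom ≤ _
    rw [← hs, Ideal.span_le]
    intro f hf
    show (push q₁) (θ₀ f) = 0
    ext k
    simp only [push, MonoidAlgebra.coeff_mapAlgHom, MonoidAlgebra.coeff_zero, Finsupp.coe_zero, Pi.zero_apply]
    by_cases hk : k ∈ (θ₀ f).coeff.support
    · exact Ideal.Quotient.eq_zero_iff_mem.mpr (Ideal.subset_span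
        (Finset.mem_biUnion.mpr ⟨f, hf, Finset.mem_image_of_mem _ hk⟩))
    · rw [Finsupp.notMem_support_iff.mp hk, map_zero]
  let ψ₁ : A →ₐ[R] MA M (P ⧸ J₁) :=
    (Ideal.Quotient.liftₐ (RingHom.ker π) ((push q₁).comp θ₀) fun x hx => hker hx).comp
      (Ideal.quotientKerAlgEquivOfSurjective hπ).symm.toAlgHom
  have hψ₁ : ∀ x, ψ₁ (π x) = push q₁ (θ₀ x) := fun x => by
    show Ideal.Quotient.liftₐ (RingHom.ker π) ((push q₁).comp θ₀) (fun x hx => hker hx)
      ((Ideal.quotientKerAlgEquivOfSurjective hπ).symm (π x)) = _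
    rw [show (Ideal.quotientKerAlgEquivOfSurjective hπ).symm (π x) = Ideal.Quotient.mk _ x from
      (AlgEquiv.symm_apply_eq _).mpr rfl]
    rfl
  refine ⟨P ⧸ J₁, inferInstance, inferInstance, ψ₁, Algebra.FinitePresentation.quotient ⟨_, rfl⟩,
    fun B _ _ ψ' hsupp => ?_⟩
  let σ₀ : P →ₐ[R] B := MvPolynomial.aeval fun p => coef ψ' p.2 (D.v p.1)
  have hσ₀ : (push σ₀).comp θ₀ = ψ'.comp π := MvPolynomial.algHom_ext fun j => by
    rw [AlgHom.comp_apply, AlgHom.comp_apply, MvPolynomial.aeval_X, MvPolynomial.aeval_X, eq_sum_coef D hsupp j,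
      map_sum]
    exact Finset.sum_congr rfl fun m _ => by rw [push_single, MvPolynomial.aeval_X]
  have hJ₁ : ∀ x ∈ J₁, σ₀ x = 0 := by
    intro x hx
    refine (Ideal.span_le.mpr ?_ : J₁ ≤ RingHom.ker σ₀) hx
    intro y hy
    obtain ⟨f, hf, hy⟩ := Finset.mem_biUnion.mp hy
    obtain ⟨k, -, rfl⟩ := Finset.mem_image.mp hy
    have h := congrArg (fun z : MA M B => z.coeff k) (DFunLike.congr_fun hσ₀ f)
    have hf0 : π f = 0 := (hs ▸ Ideal.subset_span hf : f ∈ RingHom.ker π.toRingHom)
    simp only [AlgHom.comp_apply, push, MonoidAlgebra.coeff_mapAlgHom, hf0, map_zero, MonoidAlgebra.coeff_zero,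
      Finsupp.coe_zero, Pi.zero_apply] at h
    exact h
  refine ⟨Ideal.Quotient.liftₐ J₁ σ₀ hJ₁, AlgHom.ext fun x => ?_, fun τ hτ => ?_⟩
  · obtain ⟨x, rfl⟩ := hπ x
    rw [AlgHom.comp_apply, hψ₁, ← AlgHom.comp_apply, push_comp]
    exact DFunLike.congr_fun hσ₀ x
  · refine Ideal.Quotient.algHom_ext R (MvPolynomial.algHom_ext fun p => ?_)
    show τ (q₁ (MvPolynomial.X p)) = σ₀ (MvPolynomial.X p)
    rw [MvPolynomial.aeval_X, coef, ← hτ]
    have e1 : ψ₁ (D.v p.1) = push q₁ (w p.1) := by
      have := hψ₁ (MvPolynomial.X p.1)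
      simpa [π, θ₀] using this
    rw [AlgHom.comp_apply, e1]
    simp only [w, map_sum, push_single, MonoidAlgebra.coeff_sum, Finsupp.coe_finsetSum, Finset.sum_apply,
      MonoidAlgebra.coeff_single, Finsupp.single_apply]
    rw [Finset.sum_eq_single p.2 (fun b _ hb => if_neg fun e => hb (Subtype.ext (Multiplicative.ofAdd.injective e)))
      (fun h => absurd (Finset.mem_univ _) h), if_pos rfl]

include D in
/-- Multiplicativity is a closed condition of finite presentation. -/
theorem exists_closed (ψ : A →ₐ[R] MA M B) :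
    ∃ J : Ideal B, J.FG ∧ ∀ (B' : Type u) [CommRing B'] [Algebra R B'] (σ : B →ₐ[R] B'),
      Mult ((push σ).comp ψ) ↔ ∀ x ∈ J, σ x = 0 := by
  classical
  refine ⟨Ideal.span ↑(Finset.univ.biUnion fun j => (defect D ψ j).coeff.support.image (defect D ψ j).coeff),
    ⟨_, rfl⟩, fun B' _ _ σ => ?_⟩
  rw [mult_iff_defect D]
  refine ⟨fun h x hx => ?_, fun h j => ?_⟩
  · refine (Ideal.span_le.mpr ?_ : Ideal.span _ ≤ RingHom.ker σ) hx
    intro y hy
    obtain ⟨j, -, hy⟩ := Finset.mem_biUnion.mp hy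
    obtain ⟨k, -, rfl⟩ := Finset.mem_image.mp hy
    have h0 := congrArg (fun z : MA2 M B' => z.coeff k) ((defect_map D ψ σ j).trans (h j))
    simpa using h0
  · rw [← defect_map]
    ext k
    simp only [MonoidAlgebra.coeff_mapAlgHom, MonoidAlgebra.coeff_zero, Finsupp.coe_zero, Pi.zero_apply]
    by_cases hk : k ∈ (defect D ψ j).coeff.support
    · exact h _ (Ideal.subset_span (Finset.mem_biUnion.mpr ⟨j, Finset.mem_univ _, Finset.mem_image_of_mem _ hk⟩))
    · rw [Finsupp.notMem_support_iff.mp hk, map_zero]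

/-- The chart is represented by an algebra of finite presentation. -/
theorem exists_univ [Algebra.FinitePresentation R A] (F : Finset M) :
    ∃ (C : Type u) (_ : CommRing C) (_ : Algebra R C) (ψ : A →ₐ[R] MA M C),
      Algebra.FinitePresentation R C ∧ IsUniv D F ψ := by
  classical
  obtain ⟨C₁, i₁, j₁, ψ₁, hfp, h₁⟩ := exists_supported D (M := M) F
  obtain ⟨J, hJ, hmult⟩ := exists_closed D ψ₁
  let q₂ : C₁ →ₐ[R] C₁ ⧸ J := Ideal.Quotient.mkₐ R J
  let ψ₂ : A →ₐ[R] MA M (C₁ ⧸ J) := (push q₂).comp ψ₁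
  have hm₂ : Mult ψ₂ := (hmult _ q₂).mpr fun x hx => Ideal.Quotient.eq_zero_iff_mem.mpr hx
  let g := goodProd D F ψ₂
  let q₃ : C₁ ⧸ J →ₐ[R] Localization.Away g := IsScalarTower.toAlgHom R (C₁ ⧸ J) _
  have hfp' : Algebra.FinitePresentation R (Localization.Away g) := by
    haveI := hfp
    haveI : Algebra.FinitePresentation R (C₁ ⧸ J) := Algebra.FinitePresentation.quotient hJ
    haveI : Algebra.FinitePresentation (C₁ ⧸ J) (Localization.Away g) := IsLocalization.Away.finitePresentation g
    exact Algebra.FinitePresentation.trans R (C₁ ⧸ J) _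
  refine ⟨Localization.Away g, inferInstance, inferInstance, (push q₃).comp ψ₂, hfp', hm₂.map q₃,
    (good_map_iff D F ψ₂ q₃).mpr (IsLocalization.Away.algebraMap_isUnit g), fun B _ _ ψ' hm hg => ?_⟩
  obtain ⟨σ₁, hσ₁, huniq⟩ := h₁ B ψ' fun m hm' j => coef_eq_zero D hm hg hm' j
  let σ₂ : C₁ ⧸ J →ₐ[R] B := Ideal.Quotient.liftₐ J σ₁ ((hmult B σ₁).mp (hσ₁.symm ▸ hm))
  have hσ₂ : (push σ₂).comp ψ₂ = ψ' := by
    rw [← AlgHom.comp_assoc, push_comp]
    exact hσ₁
  have hu : IsUnit (σ₂ g) := (good_map_iff D F ψ₂ σ₂).mp (hσ₂.symm ▸ hg)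
  let σ : Localization.Away g →ₐ[R] B := IsLocalization.Away.liftAlgHom g hu
  have hσq : σ.comp q₃ = σ₂ := AlgHom.ext fun x => IsLocalization.Away.lift_eq g hu x
  refine ⟨σ, show (push σ).comp ((push q₃).comp ψ₂) = ψ' by rw [← AlgHom.comp_assoc, push_comp, hσq, hσ₂],
    fun τ hτ => ?_⟩
  refine IsLocalization.algHom_ext (Submonoid.powers g) (Ideal.Quotient.algHom_ext R ?_)
  have h := huniq ((τ.comp q₃).comp q₂) (by
    show (push ((τ.comp q₃).comp q₂)).comp ψ₁ = ψ'
    rw [← push_comp, ← push_comp, AlgHom.comp_assoc, AlgHom.comp_assoc]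
    exact hτ)
  refine Eq.trans h ?_
  show σ₁ = (σ.comp q₃).comp q₂
  rw [hσq]
  exact AlgHom.ext fun x => rfl

end Good

end Groth.Agent.Deform.HomMT
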