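import Groth.Agent.Deform.HomMT.Chart
import Groth.Agent.Deform.SmoothLiftHom
import Groth.Agent.GrpSchLib.AffineHopf

/-!
# Compatible algebra maps into group algebras lift along square-zero extensions

For a formally smooth Hopf algebra `A` a map `A → (B/J)[M]` compatible with the comultiplications lifts to such a map
into `B[M]`.
-/

set_option autoImplicit false
set_option linter.style.haveILetI false
set_option backward.isDefEq.respectTransparency false
set_option backward.isDefEq.respectTransparency.types false

universe u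

open CategoryTheory MonoidalCategory CartesianMonoidalCategory AlgebraicGeometry
open TensorProduct WithConv

namespace Groth.Agent.Deform.HomMT

open GrpSchLib.AffineHopf (sp spMap spMap_mul spMap_comp spMap_injective exists_bialgHom)

attribute [local instance] CategoryTheory.Hom.monoid CategoryTheory.Hom.group

variable (B : Type u) [CommRing B] (M : Type) [AddCommGroup M]

/-- The invariant mean of a group algebra: the coefficient of the identity. -/
theorem exists_mean_MA : Nonempty (MultTypeLib.Mean B (MA M B)) := by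
  classical
  let μ : MA M B →ₗ[B] B :=
    { toFun := fun x => x.coeff 1
      map_add' := fun x y => by simp
      map_smul' := fun r x => by simp }
  have hμ : ∀ g r, μ (MonoidAlgebra.single g r) = if g = 1 then r else 0 := fun g r => by
    show (MonoidAlgebra.single g r).coeff 1 = _
    rw [MonoidAlgebra.coeff_single, Finsupp.single_apply]
  refine ⟨⟨μ, ?_, fun y => ?_⟩⟩
  · show μ 1 = 1
    rw [MonoidAlgebra.one_def, hμ, if_pos rfl]
  · induction y using MonoidAlgebra.induction_linear with
    | zero => simp
    | add x y hx hy => simp only [map_add, hx, hy, add_smul]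
    | single g r =>
      rw [MonoidAlgebra.comul_single, hμ]
      simp only [CommSemiring.comul_apply, TensorProduct.map_tmul, LinearMap.lTensor_tmul, TensorProduct.rid_tmul]
      show μ (MonoidAlgebra.single g r) • MonoidAlgebra.single g 1 = _
      rw [hμ]
      split_ifs with hg
      · subst hg; rfl
      · simp

variable {B M}

/-- Pairs of characters. -/
noncomputable def toSq : MA2 M B →ₐ[B] MA M B ⊗[B] MA M B :=
  MonoidAlgebra.lift B _ _
    (((Algebra.TensorProduct.includeLeft : MA M B →ₐ[B] MA M B ⊗[B] MA M B).toMonoidHom.comp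
        (MonoidAlgebra.of B (Multiplicative M))).coprod
      ((Algebra.TensorProduct.includeRight : MA M B →ₐ[B] MA M B ⊗[B] MA M B).toMonoidHom.comp
        (MonoidAlgebra.of B (Multiplicative M))))

theorem toSq_single (m n : Multiplicative M) :
    toSq (MonoidAlgebra.single (m, n) (1 : B)) = MonoidAlgebra.single m 1 ⊗ₜ[B] MonoidAlgebra.single n 1 := by
  rw [toSq, MonoidAlgebra.lift_single, one_smul]
  show (MonoidAlgebra.single m (1 : B) ⊗ₜ[B] (1 : MA M B)) * ((1 : MA M B) ⊗ₜ[B] MonoidAlgebra.single n 1) = _
  rw [Algebra.TensorProduct.tmul_mul_tmul, _root_.mul_one, _root_.one_mul]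

/-- The product of the two projections. -/
noncomputable def fromSq : MA M B ⊗[B] MA M B →ₐ[B] MA2 M B :=
  Algebra.TensorProduct.lift (inlA B M B) (inrA B M B) fun _ _ => .all _ _

theorem toSq_inl : (toSq (B := B) (M := M)).comp (inlA B M B) = Algebra.TensorProduct.includeLeft :=
  MonoidAlgebra.algHom_ext (fun m => by
    show toSq (MonoidAlgebra.mapDomain _ (MonoidAlgebra.single m 1)) = _
    rw [MonoidAlgebra.mapDomain_single]
    exact (toSq_single m 1).trans (by rw [← MonoidAlgebra.one_def]; rfl)) (by ext)

theorem toSq_inr : (toSq (B := B) (M := M)).comp (inrA B M B) = Algebra.TensorProduct.includeRight :=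
  MonoidAlgebra.algHom_ext (fun m => by
    show toSq (MonoidAlgebra.mapDomain _ (MonoidAlgebra.single m 1)) = _
    rw [MonoidAlgebra.mapDomain_single]
    exact (toSq_single 1 m).trans (by rw [← MonoidAlgebra.one_def]; rfl)) (by ext)

theorem toSq_dgn : (toSq (B := B) (M := M)).comp (dgnA B M B) = Bialgebra.comulAlgHom B (MA M B) :=
  MonoidAlgebra.algHom_ext (fun m => by
    show toSq (MonoidAlgebra.mapDomain _ (MonoidAlgebra.single m 1)) = _
    rw [MonoidAlgebra.mapDomain_single]
    refine (toSq_single m m).trans ?_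
    rw [Bialgebra.comulAlgHom_apply, MonoidAlgebra.comul_single]
    simp) (by ext)

theorem fromSq_comul : (fromSq (B := B) (M := M)).comp (Bialgebra.comulAlgHom B (MA M B)) = dgnA B M B :=
  MonoidAlgebra.algHom_ext (fun m => by
    rw [AlgHom.comp_apply, Bialgebra.comulAlgHom_apply, MonoidAlgebra.comul_single]
    simp [fromSq]) (by ext)

variable {R : Type u} [CommRing R] {A : Type u} [CommRing A] [HopfAlgebra R A] [Algebra R B]

/-- Restricting a convolution over `B` to `A`. -/
theorem conv_baseChange {C : Type u} [CommRing C] [Algebra B C] [Algebra R C] [IsScalarTower R B C]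
    (f g : B ⊗[R] A →ₐ[B] C) (a : A) :
    (toConv f * toConv g).ofConv (1 ⊗ₜ[R] a) =
      (toConv ((f.restrictScalars R).comp Algebra.TensorProduct.includeRight) *
        toConv ((g.restrictScalars R).comp (Algebra.TensorProduct.includeRight : A →ₐ[R] B ⊗[R] A))).ofConv a := by
  show (toConv f * toConv g) (1 ⊗ₜ[R] a) =
    (toConv ((f.restrictScalars R).comp Algebra.TensorProduct.includeRight) *
      toConv ((g.restrictScalars R).comp (Algebra.TensorProduct.includeRight : A →ₐ[R] B ⊗[R] A))) a
  rw [AlgHom.convMul_apply, AlgHom.convMul_apply, TensorProduct.comul_tmul, CommSemiring.comul_apply]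
  generalize Coalgebra.comul (R := R) a = z
  induction z using TensorProduct.induction_on with
  | zero => simp
  | add x y hx hy => simp only [tmul_add, map_add, hx, hy]
  | tmul p q => simp

theorem mem_map_of_forall_coeff {N : Type} [CommMonoid N] (J : Ideal B) (x : MonoidAlgebra B N)
    (h : ∀ k, x.coeff k ∈ J) : x ∈ J.map (algebraMap B (MonoidAlgebra B N)) := by
  rw [← MonoidAlgebra.sum_coeff_single x]
  refine Ideal.sum_mem _ fun k _ => ?_
  rw [show MonoidAlgebra.single k (x.coeff k) =
    algebraMap B (MonoidAlgebra B N) (x.coeff k) * MonoidAlgebra.single k 1 by simp [MonoidAlgebra.coe_algebraMap]]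
  exact Ideal.mul_mem_right _ _ (Ideal.mem_map_of_mem _ (h k))

set_option maxHeartbeats 1000000 in
/-- Lifting along a square-zero ideal. -/
theorem exists_lift [Algebra.FormallySmooth R A] (J : Ideal B) (hJ : J ^ 2 = ⊥)
    (ψ₀ : A →ₐ[R] MA M (B ⧸ J)) (h₀ : Mult ψ₀) :
    ∃ ψ : A →ₐ[R] MA M B, Mult ψ ∧ (push (Ideal.Quotient.mkₐ R J)).comp ψ = ψ₀ := by
  let q : B →ₐ[R] B ⧸ J := Ideal.Quotient.mkₐ R J
  have hsurj : Function.Surjective (push (M := M) q) := fun x => by
    induction x using MonoidAlgebra.induction_linear with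
    | zero => exact ⟨0, map_zero _⟩
    | add x y hx hy =>
      obtain ⟨a, rfl⟩ := hx
      obtain ⟨b, rfl⟩ := hy
      exact ⟨a + b, map_add _ _ _⟩
    | single g r =>
      obtain ⟨b, rfl⟩ := Ideal.Quotient.mk_surjective r
      exact ⟨MonoidAlgebra.single g b, push_single q g b⟩
  have hnil : IsNilpotent (RingHom.ker (push (M := M) q).toRingHom) := by
    refine ⟨2, ?_⟩
    rw [Submodule.zero_eq_bot, eq_bot_iff]
    have hle : RingHom.ker (push (M := M) q).toRingHom ≤ J.map (algebraMap B (MA M B)) := fun x hx =>
      mem_map_of_forall_coeff J x fun k => by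
        have := congrArg (fun z : MA M (B ⧸ J) => z.coeff k) (show push q x = 0 from hx)
        simp only [push, MonoidAlgebra.coeff_mapAlgHom, MonoidAlgebra.coeff_zero, Finsupp.coe_zero,
          Pi.zero_apply] at this
        exact Ideal.Quotient.eq_zero_iff_mem.mp this
    refine (Ideal.pow_right_mono hle 2).trans ?_
    rw [← Ideal.map_pow, hJ, Ideal.map_bot]
  let f : A →ₐ[R] MA M B := Algebra.FormallySmooth.liftOfSurjective ψ₀ (push q) hsurj hnil
  have hf : (push q).comp f = ψ₀ := Algebra.FormallySmooth.comp_liftOfSurjective ψ₀ (push q) hsurj hnil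
  let A' : Type u := B ⊗[R] A
  let MB : Type u := MA M B
  let f' : A' →ₐ[B] MB := Algebra.TensorProduct.lift (Algebra.ofId B MB) f fun _ _ => .all _ _
  have hf' : (f'.restrictScalars R).comp Algebra.TensorProduct.includeRight = f := AlgHom.ext fun a => by simp [f', A']
  let iL : MB →ₐ[B] MB ⊗[B] MB := Algebra.TensorProduct.includeLeft
  let iR : MB →ₐ[B] MB ⊗[B] MB := Algebra.TensorProduct.includeRight
  have key : (red J (MB ⊗[B] MB)).comp (toConv (iL.comp f') * toConv (iR.comp f')).ofConv =
      (red J (MB ⊗[B] MB)).comp ((Bialgebra.comulAlgHom B MB).comp f') := by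
    refine Algebra.TensorProduct.ext (by ext) (AlgHom.ext fun a => ?_)
    refine Ideal.Quotient.eq.mpr ?_
    show (toConv (iL.comp f') * toConv (iR.comp f')).ofConv (1 ⊗ₜ a) - Bialgebra.comulAlgHom B MB (f' (1 ⊗ₜ a)) ∈ _
    rw [conv_baseChange]
    have hfa : f' ((1 : B) ⊗ₜ a) = f a := DFunLike.congr_fun hf' a
    let T : MA2 M B →ₐ[R] MA M B ⊗[B] MA M B := (toSq (B := B) (M := M)).restrictScalars R
    have e1 : (toConv (((iL.comp f').restrictScalars R).comp Algebra.TensorProduct.includeRight) *
        toConv (((iR.comp f').restrictScalars R).comp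
          (Algebra.TensorProduct.includeRight : A →ₐ[R] B ⊗[R] A))).ofConv a =
        T ((toConv ((inlA R M B).comp f) * toConv ((inrA R M B).comp f)).ofConv a) := by
      rw [← AlgHom.comp_apply, AlgHom.comp_convMul_distrib, ofConv_toConv, ofConv_toConv]
      congr 4 <;> refine AlgHom.ext fun x => ?_
      · exact (congrArg iL (DFunLike.congr_fun hf' x)).trans (DFunLike.congr_fun toSq_inl (f x)).symm
      · exact (congrArg iR (DFunLike.congr_fun hf' x)).trans (DFunLike.congr_fun toSq_inr (f x)).symm
    have e2 : Bialgebra.comulAlgHom B MB (f a) = T (dgnA R M B (f a)) := (DFunLike.congr_fun toSq_dgn (f a)).symm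
    rw [e1, hfa, e2, ← map_sub]
    have hle : J.map (algebraMap B (MA2 M B)) ≤
        (J.map (algebraMap B (MB ⊗[B] MB))).comap T.toRingHom := Ideal.map_le_iff_le_comap.mpr fun b hb => by
      show toSq (algebraMap B (MA2 M B) b) ∈ J.map (algebraMap B (MB ⊗[B] MB))
      rw [AlgHom.commutes]
      exact Ideal.mem_map_of_mem _ hb
    refine hle (mem_map_of_forall_coeff J _ fun k => ?_)
    · refine Ideal.Quotient.eq_zero_iff_mem.mp ?_
      have h2 : MonoidAlgebra.mapAlgHom (Multiplicative M × Multiplicative M) q
          ((toConv ((inlA R M B).comp f) * toConv ((inrA R M B).comp f)).ofConv a - dgnA R M B (f a)) = 0 := by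
        rw [map_sub, sub_eq_zero]
        have h := DFunLike.congr_fun h₀ a
        rw [← hf] at h
        refine Eq.trans ?_ (h.trans ?_)
        · refine (DFunLike.congr_fun (AlgHom.comp_convMul_distrib
            (MonoidAlgebra.mapAlgHom (Multiplicative M × Multiplicative M) q) (toConv ((inlA R M B).comp f))
            (toConv ((inrA R M B).comp f))) a).trans ?_
          rw [ofConv_toConv, ofConv_toConv]
          congr 4 <;> exact AlgHom.ext fun x => push2_mapDomain q _ _
        · exact (push2_mapDomain q _ (f a)).symm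
      have h3 := congrArg (fun z : MA2 M (B ⧸ J) => z.coeff k) h2
      simp only [MonoidAlgebra.coeff_mapAlgHom, MonoidAlgebra.coeff_zero, Finsupp.coe_zero, Pi.zero_apply] at h3
      exact h3
  obtain ⟨m₀⟩ := exists_mean_MA B M
  obtain ⟨v, hv, hvf⟩ := exists_hom_near (R := B) (B := MB) (G := sp B A') hJ m₀ (spMap f') (by
    rw [spMap_comp, spMap_comp, spMap_comp, spMap_comp, spMap_mul, spMap_comp]
    exact congrArg spMap key.symm)
  obtain ⟨g, rfl⟩ := exists_bialgHom v
  let ψ : A →ₐ[R] MA M B :=
    ((g : A' →ₐ[B] MB).restrictScalars R).comp Algebra.TensorProduct.includeRight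
  refine ⟨ψ, AlgHom.ext fun a => ?_, ?_⟩
  · have h1 : ∀ x : A', (toConv ((inlA B M B).comp (g : A' →ₐ[B] MB)) *
        toConv ((inrA B M B).comp (g : A' →ₐ[B] MB))).ofConv x = dgnA B M B (g x) := by
      intro x
      show (toConv ((inlA B M B).comp (g : A' →ₐ[B] MB)) * toConv ((inrA B M B).comp (g : A' →ₐ[B] MB))) x = _
      rw [AlgHom.convMul_apply, ← DFunLike.congr_fun fromSq_comul (g x), AlgHom.comp_apply,
        Bialgebra.comulAlgHom_apply, ← CoalgHomClass.map_comp_comul_apply]
      generalize Coalgebra.comul (R := B) x = z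
      induction z using TensorProduct.induction_on with
      | zero => simp
      | add p p' hp hp' => simp only [map_add, hp, hp']
      | tmul p p' =>
        simp [fromSq]
        rfl
    have h2 := h1 (1 ⊗ₜ a)
    rw [conv_baseChange] at h2
    exact h2
  · rw [← hf]
    refine AlgHom.ext fun a => ?_
    rw [spMap_comp, spMap_comp] at hvf
    have h := DFunLike.congr_fun (spMap_injective hvf) ((1 : B) ⊗ₜ[R] a)
    have h' : (g : A' →ₐ[B] MB) (1 ⊗ₜ a) - f' (1 ⊗ₜ a) ∈ J.map (algebraMap B MB) := Ideal.Quotient.eq.mp h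
    rw [show f' ((1 : B) ⊗ₜ a) = f a from DFunLike.congr_fun hf' a] at h'
    show push q ((g : A' →ₐ[B] MB) (1 ⊗ₜ a)) = push q (f a)
    rw [← sub_eq_zero, ← map_sub]
    refine (Ideal.map_le_iff_le_comap.mpr fun b hb => ?_ :
      J.map (algebraMap B MB) ≤ RingHom.ker (push (M := M) q).toRingHom) h'
    show push q (algebraMap B (MA M B) b) = 0
    have : algebraMap B (MA M B) b = MonoidAlgebra.single 1 b := by simp [MonoidAlgebra.coe_algebraMap]
    rw [this, push_single, show q b = 0 from Ideal.Quotient.eq_zero_iff_mem.mpr hb, MonoidAlgebra.single_zero]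

end Groth.Agent.Deform.HomMT
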