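import Groth.Agent.Deform.HomMT.Univ
import Groth.Agent.RepDesc.Iso
import Groth.Agent.RepDesc.Hom
import Groth.Agent.EtFound.Descent
import Groth.Agent.GrpSchLib.MultTypeBC
import Mathlib.AlgebraicGeometry.Morphisms.LocalFlatDescent
import Mathlib.AlgebraicGeometry.Morphisms.Etale

/-!
# Homomorphisms from a quasi-isotrivial group of multiplicative type into a smooth affine group

They form a scheme which is smooth and separated over the base.
-/

set_option autoImplicit false
set_option linter.style.haveILetI false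

universe u

open CategoryTheory CategoryTheory.Limits MonoidalCategory CartesianMonoidalCategory MonObj GrpObj AlgebraicGeometry

namespace Groth.Agent.Deform.HomMT

/-- Over an affine scheme over which the source is split the homomorphisms form a scheme. -/
theorem exists_split {S : Scheme.{u}} (H G : Over S) [GrpObj H] [GrpObj G] [IsAffineHom G.hom] [Smooth G.hom]
    {R : Type u} [CommRing R] (β : Spec (CommRingCat.of R) ⟶ S) {M : Type} [AddCommGroup M]
    (eH : Grp.mk (Red.bc β H) ≅ Grp.mk (Red.DS (Spec (CommRingCat.of R)) M)) :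
    ∃ (V : Over (Spec (CommRingCat.of R))) (υ : H ⊗ Over.mk (V.hom ≫ β) ⟶ G),
      Smooth V.hom ∧ IsSeparated V.hom ∧ MoreMor.IsIndQuasiAffineHom V.hom ∧ AutFam.IsHomFamily H G υ ∧
      ∀ (T : Over S) (x : T.left ⟶ Spec (CommRingCat.of R)), x ≫ β = T.hom → ∀ φ : H ⊗ T ⟶ G,
        AutFam.IsHomFamily H G φ → ∃! v : T ⟶ Over.mk (V.hom ≫ β), v.left ≫ V.hom = x ∧ (H ◁ v) ≫ υ = φ := by
  obtain ⟨A, _, _, hsm, ⟨K⟩⟩ := exists_coords H G β eH
  haveI := hsm
  obtain ⟨D⟩ := nonempty_stable R A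
  obtain ⟨υ, hυ⟩ := exists_univ_family K D
  exact ⟨Over.mk (toBase D M), υ, smooth_toBase D M, isSeparated_toBase K D, indQA_toBase D M, isHomFamily_univ hυ,
    fun T x hx φ hφ => existsUnique_pt hυ x hx φ hφ⟩

/-- Quasi-isotrivial sources. -/
theorem exists_representsHom {S : Scheme.{u}} (H G : Over S) [GrpObj H] [GrpObj G] [IsAffineHom G.hom] [Smooth G.hom]
    (hH : ∀ s : S, ∃ (S' : Scheme.{u}) (f : S' ⟶ S) (M : Type) (_ : AddCommGroup M),
      Etale f ∧ s ∈ Set.range f ∧ Nonempty (Grp.mk (Red.bc f H) ≅ Grp.mk (Red.DS S' M))) :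
    ∃ (A : Over S) (υ : H ⊗ A ⟶ G), AutFam.RepresentsHom H G A υ ∧ Smooth A.hom ∧ IsSeparated A.hom := by
  have hmem : ∀ s : S, ∃ (R : Type u) (_ : CommRing R) (β : Spec (CommRingCat.of R) ⟶ S) (M : Type)
      (_ : AddCommGroup M),
      Etale β ∧ s ∈ Set.range β ∧ Nonempty (Grp.mk (Red.bc β H) ≅ Grp.mk (Red.DS (Spec (CommRingCat.of R)) M)) := by
    intro s
    obtain ⟨S', f, M, iM, hf, ⟨y, hy⟩, ⟨e⟩⟩ := hH s
    obtain ⟨W, hW, hyW, -⟩ := exists_isAffineOpen_mem_and_subset (show y ∈ (⊤ : S'.Opens) from trivial)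
    obtain ⟨a₁⟩ := GrpSchLib.MultTypeBC.bc_bc hW.fromSpec f H
    obtain ⟨a₂⟩ := GrpSchLib.MultTypeBC.bc_iso hW.fromSpec e
    obtain ⟨a₃⟩ := GrpSchLib.MultTypeBC.bc_DS hW.fromSpec M
    refine ⟨Γ(S', W), inferInstance, hW.fromSpec ≫ f, M, iM, inferInstance, ?_, ⟨a₁.symm ≪≫ a₂ ≪≫ a₃⟩⟩
    rw [← SetLike.mem_coe, ← hW.range_fromSpec] at hyW
    obtain ⟨z, hz⟩ := hyW
    exact ⟨z, by rw [Scheme.Hom.comp_apply, hz, hy]⟩
  choose R iR β M iM het hs he using hmem
  letI := iR
  letI := iM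
  haveI := het
  choose V υ hsm hsep hqa hfam huniv using fun s => exists_split H G (β s) (he s).some
  let X : S → Scheme.{u} := fun s => Spec (CommRingCat.of (R s))
  have hf : Presieve.ofArrows X β ∈ Scheme.fpqcPrecoverage S :=
    Scheme.fppfPrecoverage_le_fpqcPrecoverage _
      ((Scheme.presieve₀_mem_precoverage_iff (P := @Flat ⊓ @LocallyOfFinitePresentation) ⟨S, X, β⟩).mpr
        ⟨fun s => ⟨s, hs s⟩, fun i => ⟨inferInstanceAs (Flat (β i)),
          inferInstanceAs (LocallyOfFinitePresentation (β i))⟩⟩)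
  have hV : ∀ s, RepDesc.IsUnivOn β H G s (V s) (υ s) := fun s => ⟨hfam s, huniv s⟩
  obtain ⟨A, w, hA⟩ := RepDesc.exists_representsHom hf V υ hV hqa
  refine ⟨A, w, hA, ?_⟩
  let g : (∐ X) ⟶ S := Sigma.desc β
  have hg : (@Surjective ⊓ @Flat ⊓ @LocallyOfFinitePresentation : MorphismProperty Scheme.{u}) g := by
    refine ⟨⟨⟨fun s => ?_⟩, ?_⟩, ?_⟩
    · obtain ⟨z, hz⟩ := hs s
      refine ⟨Sigma.ι X s z, ?_⟩
      rw [← Scheme.Hom.comp_apply, Sigma.ι_desc]
      exact hz
    · exact IsZariskiLocalAtSource.sigmaDesc fun s => inferInstanceAs (Flat (β s))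
    · exact IsZariskiLocalAtSource.sigmaDesc fun s => inferInstanceAs (LocallyOfFinitePresentation (β s))
  have key : ∀ (P : MorphismProperty Scheme.{u}) [P.IsStableUnderBaseChange] [IsZariskiLocalAtTarget P]
      [P.DescendsAlong (@Surjective ⊓ @Flat ⊓ @QuasiCompact)], (∀ s, P (V s).hom) → P A.hom := by
    intro P _ _ _ h
    refine MorphismProperty.of_pullback_snd_of_descendsAlong (P := P)
      (Q := @Surjective ⊓ @Flat ⊓ @LocallyOfFinitePresentation) hg ?_
    refine IsZariskiLocalAtTarget.of_openCover (P := P) (sigmaOpenCover X) fun s => ?_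
    show P (pullback.snd (pullback.snd A.hom g) (Sigma.ι X s))
    rw [← MorphismProperty.cancel_left_of_respectsIso P (pullbackLeftPullbackSndIso A.hom g (Sigma.ι X s)).inv,
      pullbackLeftPullbackSndIso_inv_snd_snd]
    have e : Sigma.ι X s ≫ g = β s := Sigma.ι_desc _ _
    suffices P (pullback.snd A.hom (β s)) by
      convert this using 3 <;> first | exact e | rw [e]
    obtain ⟨i, -⟩ := RepDesc.exists_iso hA (hV s)
    haveI : IsIso i.hom.left := inferInstanceAs (IsIso ((Over.forget _).map i.hom))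
    have h' := h s
    rw [← MorphismProperty.cancel_left_of_respectsIso P i.hom.left, Over.w i.hom] at h'
    exact h'
  haveI := EtFound.fpqc_isSeparated.{u}
  exact ⟨key @Smooth hsm, key @IsSeparated hsep⟩

end Groth.Agent.Deform.HomMT
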