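import Groth.Agent.Deform.HomMT.Lift
import Mathlib.AlgebraicGeometry.Gluing
import Mathlib.AlgebraicGeometry.Morphisms.Smooth
import Mathlib.AlgebraicGeometry.Morphisms.QuasiSeparated
import Mathlib.AlgebraicGeometry.QuasiAffine
import Groth.Prelude.Def_MoreMor

/-!
# The union of the charts

The charts form a diagram of principal open immersions, closed under intersection; its colimit is smooth,
quasi-separated, and each of its quasi-compact opens lies in one affine chart.
-/

set_option autoImplicit false

universe u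

open CategoryTheory CategoryTheory.Limits AlgebraicGeometry
open TensorProduct

namespace Groth.Agent.Deform.HomMT

variable {R : Type u} [CommRing R] {A : Type u} [CommRing A] [HopfAlgebra R A] [Algebra.FinitePresentation R A]
  (D : Stable R A) (M : Type) [AddCommGroup M]

/-- A chart. -/
structure Ch (F : Finset M) where
  /-- the ring -/
  C : Type u
  [cr : CommRing C]
  [alg : Algebra R C]
  /-- the universal map -/
  ψ : A →ₐ[R] MA M C
  fp : Algebra.FinitePresentation R C
  univ : IsUniv D F ψ

theorem nonempty_ch (F : Finset M) : Nonempty (Ch D M F) :=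
  let ⟨C, i, j, ψ, h, hu⟩ := exists_univ D (M := M) F
  letI := i; letI := j; ⟨{ C := C, ψ := ψ, fp := h, univ := hu }⟩

/-- A choice of charts. -/
noncomputable def ch (F : Finset M) : Ch D M F := (nonempty_ch D M F).some

/-- The ring of a chart. -/
abbrev chR (F : Finset M) : Type u := (ch D M F).C

noncomputable instance (F : Finset M) : CommRing (chR D M F) := (ch D M F).cr
noncomputable instance (F : Finset M) : Algebra R (chR D M F) := (ch D M F).alg

/-- The universal map of a chart. -/
noncomputable def chψ (F : Finset M) : A →ₐ[R] MA M (chR D M F) := (ch D M F).ψ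

theorem chψ_mult (F : Finset M) : Mult (chψ D M F) := (ch D M F).univ.1

theorem chψ_good (F : Finset M) : Good D F (chψ D M F) := (ch D M F).univ.2.1

theorem chψ_existsUnique (F : Finset M) {B : Type u} [CommRing B] [Algebra R B] (ψ : A →ₐ[R] MA M B)
    (hm : Mult ψ) (hg : Good D F ψ) : ∃! σ : chR D M F →ₐ[R] B, (push σ).comp (chψ D M F) = ψ :=
  (ch D M F).univ.2.2 B ψ hm hg

theorem chψ_ext {F : Finset M} {B : Type u} [CommRing B] [Algebra R B] {σ τ : chR D M F →ₐ[R] B}
    (h : (push σ).comp (chψ D M F) = (push τ).comp (chψ D M F)) : σ = τ :=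
  (chψ_existsUnique D M F _ ((chψ_mult D M F).map τ) ((chψ_good D M F).map D τ)).unique h rfl

theorem push_id {B : Type u} [CommRing B] [Algebra R B] :
    push (M := M) (AlgHom.id R B) = AlgHom.id R (MA M B) :=
  AlgHom.ext fun x => by ext k; simp [push]

/-- Restriction to a smaller chart. -/
noncomputable def res {F G : Finset M} (h : F ≤ G) : chR D M G →ₐ[R] chR D M F :=
  (chψ_existsUnique D M G _ (chψ_mult D M F) ((chψ_good D M F).mono D h)).exists.choose

theorem res_spec {F G : Finset M} (h : F ≤ G) : (push (res D M h)).comp (chψ D M G) = chψ D M F :=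
  (chψ_existsUnique D M G _ (chψ_mult D M F) ((chψ_good D M F).mono D h)).exists.choose_spec

theorem res_refl (F : Finset M) : res D M (le_refl F) = AlgHom.id R _ :=
  chψ_ext D M (by rw [res_spec, push_id, AlgHom.id_comp])

theorem res_trans {F G K : Finset M} (h : F ≤ G) (h' : G ≤ K) :
    res D M (h.trans h') = (res D M h).comp (res D M h') :=
  chψ_ext D M (by rw [res_spec, ← push_comp, AlgHom.comp_assoc, res_spec, res_spec])

/-- The diagram of charts. -/
noncomputable def diagram : Finset M ⥤ Scheme.{u} where
  obj F := Spec (CommRingCat.of (chR D M F))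
  map {F G} f := Spec.map (CommRingCat.ofHom (res D M (leOfHom f)).toRingHom)
  map_id F := by
    rw [show res D M (leOfHom (𝟙 F)) = AlgHom.id R _ from res_refl D M F]
    exact Spec.map_id _
  map_comp {F G K} f g := by
    rw [← Spec.map_comp, show res D M (leOfHom (f ≫ g)) = (res D M (leOfHom f)).comp (res D M (leOfHom g)) from
      res_trans D M (leOfHom f) (leOfHom g)]
    rfl

theorem exists_away_iso {F G : Finset M} (h : F ≤ G) :
    ∃ e : Localization.Away (goodProd D F (chψ D M G)) ≃ₐ[R] chR D M F,
      ∀ x, e (algebraMap (chR D M G) _ x) = res D M h x := by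
  set g := goodProd D F (chψ D M G)
  let q : chR D M G →ₐ[R] Localization.Away g := IsScalarTower.toAlgHom R _ _
  have hg : Good D F ((push q).comp (chψ D M G)) :=
    (good_map_iff D F (chψ D M G) q).mpr (IsLocalization.Away.algebraMap_isUnit g)
  obtain ⟨τ, hτ, -⟩ := chψ_existsUnique D M F _ ((chψ_mult D M G).map q) hg
  have hu : IsUnit (res D M h g) :=
    (good_map_iff D F (chψ D M G) (res D M h)).mp (by rw [res_spec]; exact chψ_good D M F)
  let κ : Localization.Away g →ₐ[R] chR D M F := IsLocalization.Away.liftAlgHom g hu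
  have hκ : κ.comp q = res D M h := AlgHom.ext fun x => IsLocalization.Away.lift_eq g hu x
  have h1 : τ.comp (res D M h) = q :=
    chψ_ext D M (by rw [← push_comp, AlgHom.comp_assoc, res_spec, hτ])
  have h2 : τ.comp κ = AlgHom.id R _ := IsLocalization.algHom_ext (Submonoid.powers g) (by
    show (τ.comp κ).comp q = (AlgHom.id R _).comp q
    rw [AlgHom.comp_assoc, hκ, h1, AlgHom.id_comp])
  have h3 : κ.comp τ = AlgHom.id R _ := chψ_ext D M (by
    rw [← push_comp, AlgHom.comp_assoc, hτ, ← AlgHom.comp_assoc, push_comp, hκ, res_spec, push_id, AlgHom.id_comp])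
  exact ⟨AlgEquiv.ofAlgHom κ τ h3 h2, fun x => DFunLike.congr_fun hκ x⟩

instance isOpenImmersion_map {F G : Finset M} (f : F ⟶ G) : IsOpenImmersion ((diagram D M).map f) := by
  obtain ⟨e, he⟩ := exists_away_iso D M (leOfHom f)
  let g := goodProd D F (chψ D M G)
  let i : CommRingCat.of (Localization.Away g) ≅ CommRingCat.of (chR D M F) := e.toRingEquiv.toCommRingCatIso
  let loc : Spec (CommRingCat.of (Localization.Away g)) ⟶ Spec (CommRingCat.of (chR D M G)) :=
    Spec.map (CommRingCat.ofHom (algebraMap (chR D M G) (Localization.Away g)))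
  have h : (diagram D M).map f = Spec.map i.hom ≫ loc := by
    rw [← Spec.map_comp]
    exact congrArg Spec.map (CommRingCat.hom_ext (RingHom.ext fun x => (he x).symm))
  have h1 : IsOpenImmersion loc := IsOpenImmersion.of_isLocalization g
  have h2 : IsOpenImmersion (Spec.map i.hom) := IsOpenImmersion.of_isIso _
  rw [h]
  exact @IsOpenImmersion.comp _ _ _ _ _ h2 h1

theorem mem_range_iff {F G : Finset M} (h : F ≤ G) (p : PrimeSpectrum (chR D M G)) :
    p ∈ Set.range (PrimeSpectrum.comap (res D M h).toRingHom) ↔ ∀ m ∉ F, rho D (chψ D M G) m ∉ p.asIdeal := by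
  classical
  obtain ⟨e, he⟩ := exists_away_iso D M h
  have h' : PrimeSpectrum.comap (res D M h).toRingHom =
      PrimeSpectrum.comap (algebraMap (chR D M G) (Localization.Away (goodProd D F (chψ D M G)))) ∘
        PrimeSpectrum.comap (e.toRingEquiv : _ →+* chR D M F) := by
    rw [← PrimeSpectrum.comap_comp]
    exact congrArg PrimeSpectrum.comap (RingHom.ext fun x => (he x).symm)
  have hsurj : Function.Surjective (PrimeSpectrum.comap (e.toRingEquiv : _ →+* chR D M F)) := fun x =>
    ⟨PrimeSpectrum.comap (e.toRingEquiv.symm.toRingHom :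
      chR D M F →+* Localization.Away (goodProd D F (chψ D M G))) x, by
      refine PrimeSpectrum.ext (Ideal.ext fun y => ?_)
      show e.symm (e y) ∈ x.asIdeal ↔ y ∈ x.asIdeal
      rw [AlgEquiv.symm_apply_apply]⟩
  rw [h', Set.range_comp, hsurj.range_eq, Set.image_univ,
    PrimeSpectrum.localization_away_comap_range (Localization.Away (goodProd D F (chψ D M G)))
      (goodProd D F (chψ D M G))]
  show goodProd D F (chψ D M G) ∉ p.asIdeal ↔ _
  rw [goodProd, p.isPrime.prod_mem_iff]
  simp only [not_exists, not_and, Finset.mem_sdiff, and_imp]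
  refine ⟨fun hp m hm => ?_, fun hp m _ hm => hp m hm⟩
  by_cases h' : m ∈ suppA D (chψ D M G)
  · exact hp m h' hm
  · rw [rho_eq_one D h']
    exact fun h1 => p.isPrime.ne_top ((Ideal.eq_top_iff_one _).mpr h1)

instance isLocallyDirected : ((diagram D M) ⋙ Scheme.forget).IsLocallyDirected := by
  classical
  refine ⟨fun {i j k} fi fj xi xj hx => ?_⟩
  change (diagram D M).map fi xi = (diagram D M).map fj xj at hx
  let p : PrimeSpectrum (chR D M k) := (diagram D M).map fi xi
  have h1 := (mem_range_iff D M (leOfHom fi) p).mp ⟨xi, rfl⟩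
  have h2 := (mem_range_iff D M (leOfHom fj) p).mp ⟨xj, hx.symm⟩
  have hl : i ∩ j ≤ k := Finset.inter_subset_left.trans (leOfHom fi)
  obtain ⟨x, hxp⟩ := (mem_range_iff D M hl p).mpr fun m hm => by
    by_cases hmi : m ∈ i
    · exact h2 m fun hmj => hm (Finset.mem_inter.mpr ⟨hmi, hmj⟩)
    · exact h1 m hmi
  refine ⟨i ∩ j, homOfLE Finset.inter_subset_left, homOfLE Finset.inter_subset_right, x, ?_, ?_⟩
  · refine ((diagram D M).map fi).isOpenEmbedding.injective ?_
    show (diagram D M).map fi ((diagram D M).map (homOfLE (Finset.inter_subset_left : i ∩ j ≤ i)) x) = p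
    rw [← Scheme.Hom.comp_apply, ← (diagram D M).map_comp]
    exact hxp
  · refine ((diagram D M).map fj).isOpenEmbedding.injective ?_
    show (diagram D M).map fj ((diagram D M).map (homOfLE (Finset.inter_subset_right : i ∩ j ≤ j)) x) =
      (diagram D M).map fj xj
    rw [← Scheme.Hom.comp_apply, ← (diagram D M).map_comp, ← hx]
    exact hxp

/-- The union of the charts. -/
noncomputable def space : Scheme.{u} := colimit (diagram D M)

/-- A chart in the union. -/
noncomputable def incl (F : Finset M) : Spec (CommRingCat.of (chR D M F)) ⟶ space D M := colimit.ι (diagram D M) F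

instance (F : Finset M) : IsOpenImmersion (incl D M F) := inferInstanceAs (IsOpenImmersion (colimit.ι (diagram D M) F))

theorem map_incl {F G : Finset M} (h : F ≤ G) :
    Spec.map (CommRingCat.ofHom (res D M h).toRingHom) ≫ incl D M G = incl D M F :=
  colimit.w (diagram D M) (homOfLE h)

/-- The structure map. -/
noncomputable def toBase : space D M ⟶ Spec (CommRingCat.of R) :=
  colimit.desc (diagram D M)
    { pt := Spec (CommRingCat.of R)
      ι :=
        { app := fun F => Spec.map (CommRingCat.ofHom (algebraMap R (chR D M F)))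
          naturality := fun F G f => by
            show Spec.map _ ≫ Spec.map _ = Spec.map _ ≫ 𝟙 _
            rw [Category.comp_id, ← Spec.map_comp, ← CommRingCat.ofHom_comp]
            exact congrArg (fun φ => Spec.map (CommRingCat.ofHom φ)) (res D M (leOfHom f)).comp_algebraMap } }

theorem incl_toBase (F : Finset M) :
    incl D M F ≫ toBase D M = Spec.map (CommRingCat.ofHom (algebraMap R (chR D M F))) := colimit.ι_desc _ _

theorem exists_mem_range (x : space D M) : ∃ F, x ∈ Set.range (incl D M F) :=
  let ⟨F, y, h⟩ := Scheme.IsLocallyDirected.ι_jointly_surjective (diagram D M) x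
  ⟨F, y, h⟩

theorem range_mono {F G : Finset M} (h : F ≤ G) : Set.range (incl D M F) ⊆ Set.range (incl D M G) := by
  rintro _ ⟨x, rfl⟩
  rw [← map_incl D M h, Scheme.Hom.comp_apply]
  exact ⟨_, rfl⟩

theorem mem_range_inter [DecidableEq M] {F G : Finset M} {x : space D M} (hF : x ∈ Set.range (incl D M F))
    (hG : x ∈ Set.range (incl D M G)) : x ∈ Set.range (incl D M (F ∩ G)) := by
  obtain ⟨a, rfl⟩ := hF
  obtain ⟨b, hb⟩ := hG
  obtain ⟨k, fi, fj, z, hz, -⟩ := (Scheme.IsLocallyDirected.ι_eq_ι_iff (diagram D M)).mp hb.symm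
  refine range_mono D M (Finset.subset_inter (leOfHom fi) (leOfHom fj)) ⟨z, ?_⟩
  rw [← hz]
  show colimit.ι (diagram D M) k z = ((diagram D M).map fi ≫ colimit.ι (diagram D M) F) z
  rw [colimit.w]

theorem exists_chart_of_isCompact {U : Set (space D M)} (hU : IsCompact U) :
    ∃ F : Finset M, U ⊆ Set.range (incl D M F) := by
  classical
  obtain ⟨t, ht⟩ := hU.elim_finite_subcover (fun F : Finset M => Set.range (incl D M F))
    (fun F => (incl D M F).isOpenEmbedding.isOpen_range) fun x _ => Set.mem_iUnion.mpr (exists_mem_range D M x)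
  refine ⟨t.sup id, fun x hx => ?_⟩
  obtain ⟨F, hF⟩ := Set.mem_iUnion.mp (ht hx)
  obtain ⟨hFt, hxF⟩ := Set.mem_iUnion.mp hF
  exact range_mono D M (Finset.le_sup (f := id) hFt) hxF

theorem smooth_chart [Algebra.FormallySmooth R A] (F : Finset M) : Algebra.Smooth R (chR D M F) := by
  haveI := (ch D M F).fp
  refine ⟨Algebra.FormallySmooth.of_comp_surjective fun B _ _ I hI g => ?_, inferInstance⟩
  let q : B →ₐ[R] B ⧸ I := Ideal.Quotient.mkₐ R I
  obtain ⟨ψ, hψ, hψq⟩ := exists_lift I hI ((push g).comp (chψ D M F)) ((chψ_mult D M F).map g)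
  have hg : Good D F ψ := fun m hm => by
    have h := (chψ_good D M F).map D g m hm
    rw [← hψq, rho_map] at h
    obtain ⟨c, hc⟩ := Ideal.Quotient.mk_surjective (↑h.unit⁻¹ : B ⧸ I)
    have h1 : rho D ψ m * c - 1 ∈ I := Ideal.Quotient.eq.mp (by
      rw [map_mul, hc, map_one]
      exact h.mul_val_inv)
    have h2 : IsNilpotent (rho D ψ m * c - 1) := ⟨2, by
      have := Ideal.pow_mem_pow h1 2
      rw [hI] at this
      exact (Submodule.mem_bot _).mp this⟩
    have h3 := h2.isUnit_add_one
    rw [sub_add_cancel] at h3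
    exact isUnit_of_mul_isUnit_left h3
  obtain ⟨σ, hσ, -⟩ := chψ_existsUnique D M F ψ hψ hg
  refine ⟨σ, chψ_ext D M ?_⟩
  rw [← push_comp, AlgHom.comp_assoc, hσ, hψq]

theorem smooth_toBase [Algebra.FormallySmooth R A] : Smooth (toBase D M) := by
  refine (IsZariskiLocalAtSource.iff_of_openCover (P := @Smooth) (Scheme.IsLocallyDirected.openCover (diagram D M))).mpr
    fun F => ?_
  show Smooth (incl D M F ≫ toBase D M)
  rw [incl_toBase]
  exact (HasRingHomProperty.Spec_iff (P := @Smooth)).mpr (RingHom.smooth_algebraMap.mpr (smooth_chart D M F))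

theorem isCompact_inter_of_subset_range {U W : (space D M).Opens} (hU : IsCompact (U : Set (space D M)))
    (hW : IsCompact (W : Set (space D M))) : IsCompact ((U : Set (space D M)) ∩ W) := by
  obtain ⟨F, hF⟩ := exists_chart_of_isCompact D M (hU.union hW)
  let i := incl D M F
  have hle : ∀ {Z : (space D M).Opens}, IsCompact (Z : Set (space D M)) → (Z : Set (space D M)) ⊆ Set.range i →
      IsCompact (i ⁻¹' (Z : Set (space D M))) := fun {Z} hZ hsub => by
    rw [i.isOpenEmbedding.isInducing.isCompact_iff, Set.image_preimage_eq_of_subset hsub]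
    exact hZ
  haveI : QuasiSeparatedSpace (Spec (CommRingCat.of (chR D M F))) := inferInstance
  have h := QuasiSeparatedSpace.inter_isCompact (α := Spec (CommRingCat.of (chR D M F))) _ _
    (i.continuous.isOpen_preimage _ U.2) (hle hU (Set.subset_union_left.trans hF))
    (i.continuous.isOpen_preimage _ W.2) (hle hW (Set.subset_union_right.trans hF))
  have h' : IsCompact (i '' (i ⁻¹' ((U : Set (space D M)) ∩ W))) := h.image i.continuous
  rwa [Set.image_preimage_eq_of_subset
    (Set.inter_subset_left.trans (Set.subset_union_left.trans hF))] at h'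

theorem quasiSeparated_toBase : QuasiSeparated (toBase D M) := by
  haveI : QuasiSeparatedSpace (space D M) := quasiSeparatedSpace_iff_forall_affineOpens.mpr fun U W =>
    isCompact_inter_of_subset_range D M U.2.isCompact W.2.isCompact
  exact HasAffineProperty.iff_of_isAffine.mpr ‹_›

theorem indQA_toBase : MoreMor.IsIndQuasiAffineHom (toBase D M) := by
  intro W _ U hU
  let Z : Scheme.{u} := U
  let j : Z ⟶ space D M := U.ι ≫ (toBase D M ⁻¹ᵁ W).ι
  haveI : CompactSpace Z := isCompact_iff_compactSpace.mp hU
  obtain ⟨F, hF⟩ := exists_chart_of_isCompact D M (isCompact_range j.continuous)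
  haveI : Scheme.IsQuasiAffine (Spec (CommRingCat.of (chR D M F))) := inferInstance
  exact Scheme.IsQuasiAffine.of_isImmersion (IsOpenImmersion.lift (incl D M F) j hF)

end Groth.Agent.Deform.HomMT
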