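import Mathlib.RingTheory.Smooth.NoetherianDescent
import Mathlib.RingTheory.Bialgebra.Basic
import Mathlib.RingTheory.Flat.Basic
import Mathlib.RingTheory.Smooth.Flat
import Mathlib.RingTheory.IsTensorProduct

/-!
# A smooth bialgebra has finitely many generators spanning a subcomodule

For a smooth commutative bialgebra `A` over any ring `R` there are finitely many algebra generators `v j` with
`Δ (v j) = ∑ i, v i ⊗ a i j`: the algebra has a model over a Noetherian subring which is flat, and there the largest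
subcomodule inside a finitely generated submodule is finitely generated.
-/

set_option autoImplicit false

universe u

open TensorProduct

namespace Groth.Agent.Deform.HomMT

section Pair

variable {R₁ R : Type u} [CommRing R₁] [CommRing R] [Algebra R₁ R]
  {M M' N N' : Type u} [AddCommGroup M] [Module R₁ M] [AddCommGroup M'] [Module R₁ M'] [Module R M']
  [IsScalarTower R₁ R M'] [AddCommGroup N] [Module R₁ N] [AddCommGroup N'] [Module R₁ N'] [Module R N']
  [IsScalarTower R₁ R N']

/-- The map from a tensor product over `R₁` to a tensor product over `R`. -/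
noncomputable def pairMap (i : M →ₗ[R₁] M') (j : N →ₗ[R₁] N') : M ⊗[R₁] N →ₗ[R₁] M' ⊗[R] N' :=
  TensorProduct.lift
    (LinearMap.mk₂ R₁ (fun m n => i m ⊗ₜ[R] j n) (fun m m' n => by simp [add_tmul])
      (fun c m n => by simp [smul_tmul']) (fun m n n' => by simp [tmul_add]) (fun c m n => by simp [tmul_smul]))

@[simp] theorem pairMap_tmul (i : M →ₗ[R₁] M') (j : N →ₗ[R₁] N') (m : M) (n : N) :
    pairMap (R := R) i j (m ⊗ₜ n) = i m ⊗ₜ[R] j n := rfl

/-- An injective map and a base change of a flat module give an injective map of tensor products. -/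
theorem pairMap_injective [Module.Flat R₁ N] (i : M →ₗ[R₁] M') (hi : Function.Injective i) (j : N →ₗ[R₁] N')
    (hj : IsBaseChange R j) : Function.Injective (pairMap (R := R) i j) := by
  let E : M' ⊗[R₁] N →ₗ[R] M' ⊗[R] N' :=
    ((TensorProduct.AlgebraTensorModule.cancelBaseChange R₁ R R M' N).symm ≪≫ₗ
      TensorProduct.congr (LinearEquiv.refl R M') hj.equiv).toLinearMap
  have hE : Function.Injective E := LinearEquiv.injective _
  have e : pairMap (R := R) i j = E.restrictScalars R₁ ∘ₗ i.rTensor N := by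
    refine TensorProduct.ext' fun m n => ?_
    simp [E, IsBaseChange.equiv_tmul]
  rw [e]
  exact hE.comp (Module.Flat.rTensor_preserves_injective_linearMap i hi)

/-- A base change of a flat module along an injective map is injective. -/
theorem injective_of_isBaseChange [Module.Flat R₁ N] (hinj : Function.Injective (algebraMap R₁ R))
    (j : N →ₗ[R₁] N') (hj : IsBaseChange R j) : Function.Injective j := by
  have h := Module.Flat.rTensor_preserves_injective_linearMap (M := N) (Algebra.linearMap R₁ R) hinj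
  have e : j = (hj.equiv.toLinearMap.restrictScalars R₁) ∘ₗ (Algebra.linearMap R₁ R).rTensor N ∘ₗ
      (TensorProduct.lid R₁ N).symm.toLinearMap := by
    ext n
    simp [IsBaseChange.equiv_tmul]
  rw [e]
  simp only [LinearMap.coe_comp, LinearEquiv.coe_coe, LinearMap.coe_restrictScalars]
  exact hj.equiv.injective.comp (h.comp (LinearEquiv.injective _))

end Pair

section Model

variable {R₁ R : Type u} [CommRing R₁] [CommRing R] [Algebra R₁ R]
  {A₁ : Type u} [CommRing A₁] [Algebra R₁ A₁]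
  {A : Type u} [CommRing A] [Algebra R A] [Algebra R₁ A] [IsScalarTower R₁ R A]

/-- The map of tensor squares. -/
noncomputable def pairAlg {B₁ : Type u} [CommRing B₁] [Algebra R₁ B₁] {B : Type u} [CommRing B] [Algebra R B]
    [Algebra R₁ B] [IsScalarTower R₁ R B] (f : B₁ →ₐ[R₁] B) (ι : A₁ →ₐ[R₁] A) : B₁ ⊗[R₁] A₁ →ₐ[R₁] B ⊗[R] A :=
  Algebra.TensorProduct.lift (((Algebra.TensorProduct.includeLeft : B →ₐ[R] B ⊗[R] A).restrictScalars R₁).comp f)
    (((Algebra.TensorProduct.includeRight : A →ₐ[R] B ⊗[R] A).restrictScalars R₁).comp ι) fun _ _ => .all _ _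

theorem pairAlg_apply {B₁ : Type u} [CommRing B₁] [Algebra R₁ B₁] {B : Type u} [CommRing B] [Algebra R B]
    [Algebra R₁ B] [IsScalarTower R₁ R B] (f : B₁ →ₐ[R₁] B) (ι : A₁ →ₐ[R₁] A) (x : B₁ ⊗[R₁] A₁) :
    pairAlg (R := R) f ι x = pairMap (R := R) f.toLinearMap ι.toLinearMap x := by
  induction x using TensorProduct.induction_on with
  | zero => simp
  | add x y hx hy => rw [map_add, map_add, hx, hy]
  | tmul a b => simp [pairAlg]

omit [CommRing R] [Algebra R₁ R] in
theorem mem_range_of_adjoin {B C : Type u} [CommRing B] [Algebra R₁ B] [CommRing C] [Algebra R₁ C]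
    (s : Set A₁) (hs : Algebra.adjoin R₁ s = ⊤) (f : A₁ →ₐ[R₁] C) (g : B →ₐ[R₁] C)
    (h : ∀ x ∈ s, f x ∈ g.range) (x : A₁) : f x ∈ g.range :=
  have : Algebra.adjoin R₁ s ≤ g.range.comap f := Algebra.adjoin_le h
  this (hs ▸ Algebra.mem_top)

end Model

section Stable

variable {R₁ R : Type u} [CommRing R₁] [IsNoetherianRing R₁] [CommRing R] [Algebra R₁ R]
  {A₁ : Type u} [CommRing A₁] [Algebra R₁ A₁] [Module.Flat R₁ A₁]
  {A : Type u} [CommRing A] [Bialgebra R A] [Algebra R₁ A] [IsScalarTower R₁ R A]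

set_option maxHeartbeats 1000000 in
/-- The statement for a flat model over a Noetherian subring over which the comultiplication is defined. -/
theorem exists_stable_of_model (hinj : Function.Injective (algebraMap R₁ R)) (ι : A₁ →ₐ[R₁] A)
    (hι : IsBaseChange R ι.toLinearMap) (s : Finset A₁) (hs : Algebra.adjoin R₁ (s : Set A₁) = ⊤)
    (hΔ : ∀ x ∈ s, Bialgebra.comulAlgHom R A (ι x) ∈ (pairAlg (R := R) ι ι).range)
    (hε : ∀ x ∈ s, Bialgebra.counitAlgHom R A (ι x) ∈ (Algebra.ofId R₁ R).range) :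
    ∃ (n : ℕ) (v : Fin n → A) (a : Fin n → Fin n → A), Algebra.adjoin R (Set.range v) = ⊤ ∧
      ∀ j, Coalgebra.comul (R := R) (v j) = ∑ i, v i ⊗ₜ[R] a i j := by
  classical
  have hι' : Function.Injective ι := injective_of_isBaseChange hinj ι.toLinearMap hι
  have hP : Function.Injective (pairAlg (R := R) ι ι) := fun x y h =>
    pairMap_injective ι.toLinearMap hι' ι.toLinearMap hι (by rwa [← pairAlg_apply, ← pairAlg_apply])
  have hQ : Function.Injective (pairAlg (R := R) (pairAlg (R := R) ι ι) ι) := fun x y h =>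
    pairMap_injective (pairAlg (R := R) ι ι).toLinearMap hP ι.toLinearMap hι
      (by rwa [← pairAlg_apply, ← pairAlg_apply])
  let P := pairAlg (R := R) ι ι
  have hΔ' : ∀ x, Bialgebra.comulAlgHom R A (ι x) ∈ P.range :=
    mem_range_of_adjoin (s : Set A₁) hs (((Bialgebra.comulAlgHom R A).restrictScalars R₁).comp ι) P hΔ
  have hε' : ∀ x, Bialgebra.counitAlgHom R A (ι x) ∈ (Algebra.ofId R₁ R).range :=
    mem_range_of_adjoin (s : Set A₁) hs (((Bialgebra.counitAlgHom R A).restrictScalars R₁).comp ι) _ hε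
  let Δ₁ : A₁ →ₐ[R₁] A₁ ⊗[R₁] A₁ := (AlgEquiv.ofInjective P hP).symm.toAlgHom.comp
    ((((Bialgebra.comulAlgHom R A).restrictScalars R₁).comp ι).codRestrict P.range hΔ')
  let ε₁ : A₁ →ₐ[R₁] R₁ := (AlgEquiv.ofInjective (Algebra.ofId R₁ R) hinj).symm.toAlgHom.comp
    ((((Bialgebra.counitAlgHom R A).restrictScalars R₁).comp ι).codRestrict (Algebra.ofId R₁ R).range hε')
  have hPΔ : ∀ x, P (Δ₁ x) = Coalgebra.comul (R := R) (ι x) := fun x =>
    congrArg Subtype.val ((AlgEquiv.ofInjective P hP).apply_symm_apply _)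
  have hεε : ∀ x, algebraMap R₁ R (ε₁ x) = Coalgebra.counit (R := R) (ι x) := fun x =>
    congrArg Subtype.val ((AlgEquiv.ofInjective (Algebra.ofId R₁ R) hinj).apply_symm_apply _)
  let E : A₁ ⊗[R₁] A₁ →ₗ[R₁] A₁ := (TensorProduct.rid R₁ A₁).toLinearMap ∘ₗ ε₁.toLinearMap.lTensor A₁
  have hcounit : ∀ x, E (Δ₁ x) = x := by
    intro x
    apply hι'
    have key : ∀ z, ι (E z) =
        TensorProduct.rid R A (LinearMap.lTensor A (Coalgebra.counit (R := R)) (P z)) := by
      intro z
      induction z using TensorProduct.induction_on with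
      | zero => simp
      | add z z' hz hz' => rw [map_add, map_add, map_add, map_add, map_add, hz, hz']
      | tmul p q => simp [E, P, pairAlg, ← hεε]
    rw [key, hPΔ, Coalgebra.lTensor_counit_comul, TensorProduct.rid_tmul, one_smul]
  let D : A₁ →ₗ[R₁] A₁ ⊗[R₁] A₁ := Δ₁.toLinearMap
  have hco : ∀ x, D.rTensor A₁ (D x) = (TensorProduct.assoc R₁ A₁ A₁ A₁).symm (D.lTensor A₁ (D x)) := by
    intro x
    apply hQ
    have k1 : ∀ z, pairAlg (R := R) P ι (D.rTensor A₁ z) =
        LinearMap.rTensor A (Coalgebra.comul (R := R)) (P z) := by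
      intro z
      induction z using TensorProduct.induction_on with
      | zero => simp
      | add z z' hz hz' => simp only [map_add, hz, hz']
      | tmul p q => simp [D, P, pairAlg_apply, ← hPΔ]
    have k2 : ∀ z, pairAlg (R := R) P ι ((TensorProduct.assoc R₁ A₁ A₁ A₁).symm (D.lTensor A₁ z)) =
        (TensorProduct.assoc R A A A).symm (LinearMap.lTensor A (Coalgebra.comul (R := R)) (P z)) := by
      intro z
      induction z using TensorProduct.induction_on with
      | zero => simp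
      | add z z' hz hz' => simp only [map_add, hz, hz']
      | tmul p q =>
        have k3 : ∀ w, pairAlg (R := R) P ι ((TensorProduct.assoc R₁ A₁ A₁ A₁).symm (p ⊗ₜ w)) =
            (TensorProduct.assoc R A A A).symm (ι p ⊗ₜ P w) := by
          intro w
          induction w using TensorProduct.induction_on with
          | zero => simp
          | add w w' hw hw' => simp only [tmul_add, map_add, hw, hw']
          | tmul b c => simp [P, pairAlg_apply]
        rw [LinearMap.lTensor_tmul, k3]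
        simp [D, P, pairAlg_apply, ← hPΔ]
    show pairAlg (R := R) P ι _ = pairAlg (R := R) P ι _
    rw [k1, k2, show P (D x) = _ from hPΔ x, ← Coalgebra.coassoc_apply, LinearEquiv.symm_apply_apply]
  -- the submodule spanned by the first legs
  have hleg : ∀ z : A₁ ⊗[R₁] A₁, ∃ W : Submodule R₁ A₁, W.FG ∧ z ∈ LinearMap.range (W.subtype.rTensor A₁) := by
    intro z
    obtain ⟨S, hS⟩ := TensorProduct.exists_finset z
    refine ⟨Submodule.span R₁ ↑(S.image Prod.fst), ⟨_, rfl⟩, ?_⟩
    rw [hS]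
    refine Submodule.sum_mem _ fun p hp => ⟨⟨p.1, Submodule.subset_span (Finset.mem_image_of_mem _ hp)⟩ ⊗ₜ p.2, rfl⟩
  choose W hWfg hW using fun x : A₁ => hleg (D x)
  let W₀ : Submodule R₁ A₁ := s.sup W
  have hW₀ : W₀.FG := Submodule.fg_finset_sup _ _ fun x _ => hWfg x
  let f : A₁ →ₗ[R₁] (A₁ ⧸ W₀) ⊗[R₁] A₁ := W₀.mkQ.rTensor A₁ ∘ₗ D
  let U : Submodule R₁ A₁ := LinearMap.ker f
  have hUW : U ≤ W₀ := by
    intro x hx
    have key : ∀ z : A₁ ⊗[R₁] A₁, W₀.mkQ (E z) =
        TensorProduct.rid R₁ (A₁ ⧸ W₀) (ε₁.toLinearMap.lTensor (A₁ ⧸ W₀) (W₀.mkQ.rTensor A₁ z)) := by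
      intro z
      induction z using TensorProduct.induction_on with
      | zero => simp
      | add z z' hz hz' => simp only [map_add, hz, hz']
      | tmul p q => simp [E]
    have h := key (Δ₁ x)
    rw [hcounit, show W₀.mkQ.rTensor A₁ (Δ₁ x) = 0 from hx, map_zero, map_zero] at h
    exact (Submodule.Quotient.mk_eq_zero _).mp h
  have hsU : ∀ x ∈ s, x ∈ U := by
    intro x hx
    obtain ⟨y, hy⟩ := hW x
    have hle : W x ≤ W₀ := Finset.le_sup hx
    show W₀.mkQ.rTensor A₁ (D x) = 0
    rw [← hy, ← LinearMap.comp_apply, ← LinearMap.rTensor_comp,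
      show W₀.mkQ ∘ₗ (W x).subtype = 0 from LinearMap.ext fun w => (Submodule.Quotient.mk_eq_zero _).mpr (hle w.2),
      LinearMap.rTensor_zero, LinearMap.zero_apply]
  have hUD : ∀ x ∈ U, D x ∈ LinearMap.range (U.subtype.rTensor A₁) := by
    intro x hx
    have hex : Function.Exact U.subtype f := LinearMap.exact_subtype_ker_map f
    refine (Module.Flat.rTensor_exact A₁ hex (D x)).mp ?_
    show (W₀.mkQ.rTensor A₁ ∘ₗ D).rTensor A₁ (D x) = 0
    rw [LinearMap.rTensor_comp, LinearMap.comp_apply, hco]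
    have key : ∀ z : A₁ ⊗[R₁] A₁, (W₀.mkQ.rTensor A₁).rTensor A₁ ((TensorProduct.assoc R₁ A₁ A₁ A₁).symm
        (D.lTensor A₁ z)) = (TensorProduct.assoc R₁ (A₁ ⧸ W₀) A₁ A₁).symm
          (D.lTensor (A₁ ⧸ W₀) (W₀.mkQ.rTensor A₁ z)) := by
      intro z
      induction z using TensorProduct.induction_on with
      | zero => simp
      | add z z' hz hz' => simp only [map_add, hz, hz']
      | tmul p q =>
        rw [LinearMap.lTensor_tmul, LinearMap.rTensor_tmul, LinearMap.lTensor_tmul]
        induction D q using TensorProduct.induction_on with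
        | zero => simp
        | add w w' hw hw' => simp only [tmul_add, map_add, hw, hw']
        | tmul b c => simp
    rw [key, show W₀.mkQ.rTensor A₁ (D x) = 0 from hx, map_zero, map_zero]
  haveI : IsNoetherian R₁ W₀ := isNoetherian_of_fg_of_noetherian W₀ hW₀
  have hUfg : U.FG := by
    have h := (IsNoetherian.noetherian (U.comap W₀.subtype)).map W₀.subtype
    rwa [Submodule.map_comap_eq, Submodule.range_subtype, inf_of_le_right hUW] at h
  obtain ⟨n, u, hu⟩ := Submodule.fg_iff_exists_fin_generating_family.mp hUfg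
  have hdec : ∀ y : U ⊗[R₁] A₁, ∃ a : Fin n → A₁, U.subtype.rTensor A₁ y = ∑ i, u i ⊗ₜ a i := by
    intro y
    induction y using TensorProduct.induction_on with
    | zero => exact ⟨0, by simp⟩
    | add y y' hy hy' =>
      obtain ⟨a, ha⟩ := hy
      obtain ⟨a', ha'⟩ := hy'
      exact ⟨a + a', by simp [ha, ha', tmul_add, Finset.sum_add_distrib]⟩
    | tmul x q =>
      obtain ⟨c, hc⟩ := (Submodule.mem_span_range_iff_exists_fun R₁).mp (hu.symm ▸ x.2 :
        (x : A₁) ∈ Submodule.span R₁ (Set.range u))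
      refine ⟨fun i => c i • q, ?_⟩
      rw [LinearMap.rTensor_tmul, U.subtype_apply, ← hc, sum_tmul]
      simp [smul_tmul]
  have huU : ∀ j, u j ∈ U := fun j => hu ▸ Submodule.subset_span ⟨j, rfl⟩
  choose y hy using fun j => hUD (u j) (huU j)
  choose a ha using fun j => hdec (y j)
  refine ⟨n, fun i => ι (u i), fun i j => ι (a j i), ?_, fun j => ?_⟩
  · rw [eq_top_iff]
    intro x hx
    clear hx
    induction x using hι.inductionOn with
    | zero => exact zero_mem _
    | tmul m =>
      have hle : Algebra.adjoin R₁ (s : Set A₁) ≤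
          ((Algebra.adjoin R (Set.range fun i => ι (u i))).restrictScalars R₁).comap ι := by
        refine Algebra.adjoin_le fun x hx => ?_
        obtain ⟨c, hc⟩ := (Submodule.mem_span_range_iff_exists_fun R₁).mp (hu.symm ▸ hsU x hx :
          x ∈ Submodule.span R₁ (Set.range u))
        show ι x ∈ Algebra.adjoin R (Set.range fun i => ι (u i))
        rw [← hc, map_sum]
        refine Subalgebra.sum_mem _ fun i _ => ?_
        rw [map_smul, ← algebraMap_smul R (c i)]
        exact Subalgebra.smul_mem _ (Algebra.subset_adjoin (Set.mem_range_self i)) _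
      exact hle (hs ▸ Algebra.mem_top : m ∈ Algebra.adjoin R₁ (s : Set A₁))
    | smul r n hn => exact Subalgebra.smul_mem _ hn r
    | add x y hx hy => exact add_mem hx hy
  · rw [← hPΔ]
    show P (D (u j)) = _
    rw [← hy j, ha j, map_sum]
    simp [P, pairAlg_apply]

end Stable

section Model2

variable {R₀ R₁ : Type u} [CommRing R₀] [CommRing R₁] [Algebra R₀ R₁]
  {A₀ A : Type u} [CommRing A₀] [Algebra R₀ A₀] [CommRing A] [Algebra R₀ A] [Algebra R₁ A] [IsScalarTower R₀ R₁ A]

/-- The map out of the model over an intermediate ring. -/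
noncomputable def modelMap (ι₀ : A₀ →ₐ[R₀] A) : R₁ ⊗[R₀] A₀ →ₐ[R₁] A :=
  Algebra.TensorProduct.lift (Algebra.ofId R₁ A) ι₀ fun _ _ => .all _ _

theorem adjoin_model (s₀ : Set A₀) (hs₀ : Algebra.adjoin R₀ s₀ = ⊤) :
    Algebra.adjoin R₁ ((fun x => (1 : R₁) ⊗ₜ[R₀] x) '' s₀) = ⊤ := by
  rw [eq_top_iff]
  intro z hz₀
  clear hz₀
  induction z using TensorProduct.induction_on with
  | zero => exact zero_mem _
  | add x y hx hy => exact add_mem hx hy
  | tmul p q =>
    have hq : Algebra.adjoin R₀ s₀ ≤ ((Algebra.adjoin R₁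
        ((fun x => (1 : R₁) ⊗ₜ[R₀] x) '' s₀)).restrictScalars R₀).comap
          (Algebra.TensorProduct.includeRight : A₀ →ₐ[R₀] R₁ ⊗[R₀] A₀) :=
      Algebra.adjoin_le fun x hx => Algebra.subset_adjoin ⟨x, hx, rfl⟩
    rw [show (p ⊗ₜ[R₀] q : R₁ ⊗[R₀] A₀) = p • ((1 : R₁) ⊗ₜ[R₀] q) by rw [smul_tmul', smul_eq_mul, mul_one]]
    exact Subalgebra.smul_mem (Algebra.adjoin R₁ _)
      (hq (hs₀ ▸ Algebra.mem_top : q ∈ Algebra.adjoin R₀ s₀)) p

theorem modelMap_one_tmul (ι₀ : A₀ →ₐ[R₀] A) (q : A₀) : modelMap ι₀ ((1 : R₁) ⊗ₜ[R₀] q) = ι₀ q := by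
  rw [modelMap, Algebra.TensorProduct.lift_tmul, map_one, one_mul]

variable {R : Type u} [CommRing R] [Algebra R₁ R] [Algebra R₀ R]
  [IsScalarTower R₀ R₁ R] [Algebra R A] [IsScalarTower R₁ R A] [IsScalarTower R₀ R A]

omit [IsScalarTower R₀ R₁ R] [IsScalarTower R₀ R A] [Algebra R₀ R] in
theorem modelMap_tmul (ι₀ : A₀ →ₐ[R₀] A) (p : R₁) (q : A₀) :
    modelMap ι₀ (p ⊗ₜ[R₀] q) = algebraMap R₁ R p • ι₀ q := by
  rw [modelMap, Algebra.TensorProduct.lift_tmul, Algebra.ofId_apply, Algebra.smul_def,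
    IsScalarTower.algebraMap_apply R₁ R A]

theorem isBaseChange_modelMap (ι₀ : A₀ →ₐ[R₀] A) (h : IsBaseChange R ι₀.toLinearMap) :
    IsBaseChange R (modelMap (R₁ := R₁) ι₀).toLinearMap := by
  refine IsBaseChange.of_equiv
    ((TensorProduct.AlgebraTensorModule.cancelBaseChange R₀ R₁ R R A₀) ≪≫ₗ h.equiv) fun x => ?_
  induction x using TensorProduct.induction_on with
  | zero => simp
  | add x y hx hy => simp only [tmul_add, map_add, hx, hy]
  | tmul p q =>
    show h.equiv ((p • (1 : R)) ⊗ₜ q) = modelMap ι₀ (p ⊗ₜ q)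
    rw [IsBaseChange.equiv_tmul, modelMap_tmul (R := R), Algebra.smul_def p, mul_one]
    rfl

end Model2

/-- Every element of the tensor square is a combination of elements from the model. -/
theorem span_pair {R₀ R : Type u} [CommRing R₀] [CommRing R] [Algebra R₀ R] {A₀ A : Type u} [CommRing A₀]
    [Algebra R₀ A₀] [CommRing A] [Algebra R A] [Algebra R₀ A] [IsScalarTower R₀ R A] (ι₀ : A₀ →ₐ[R₀] A)
    (hι₀ : IsBaseChange R ι₀.toLinearMap) (z : A ⊗[R] A) :
    z ∈ Submodule.span R (Set.range fun p : A₀ × A₀ => ι₀ p.1 ⊗ₜ[R] ι₀ p.2) := by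
  have hA : ∀ x : A, x ∈ Submodule.span R (Set.range ι₀) := fun x => by
    induction x using hι₀.inductionOn with
    | zero => exact zero_mem _
    | tmul m => exact Submodule.subset_span ⟨m, rfl⟩
    | smul r n hn => exact Submodule.smul_mem _ r hn
    | add x y hx hy => exact add_mem hx hy
  induction z using TensorProduct.induction_on with
  | zero => exact zero_mem _
  | add z z' hz hz' => exact add_mem hz hz'
  | tmul p q =>
    have h : ∀ q, q ∈ Submodule.span R (Set.range ι₀) → ∀ p, p ∈ Submodule.span R (Set.range ι₀) →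
        p ⊗ₜ[R] q ∈ Submodule.span R (Set.range fun p : A₀ × A₀ => ι₀ p.1 ⊗ₜ[R] ι₀ p.2) := by
      intro q hq p hp
      induction hp using Submodule.span_induction with
      | zero => simp
      | add x y _ _ hx hy => rw [add_tmul]; exact add_mem hx hy
      | smul r x _ hx => rw [← smul_tmul']; exact Submodule.smul_mem _ r hx
      | mem x hx =>
        obtain ⟨x', rfl⟩ := hx
        induction hq using Submodule.span_induction with
        | zero => simp
        | add y z _ _ hy hz => rw [tmul_add]; exact add_mem hy hz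
        | smul r y _ hy => rw [tmul_smul]; exact Submodule.smul_mem _ r hy
        | mem y hy => obtain ⟨y', rfl⟩ := hy; exact Submodule.subset_span ⟨(x', y'), rfl⟩
    exact h q (hA q) p (hA p)

/-- The comultiplication is defined over a finitely generated extension of a Noetherian model. -/
theorem exists_stable_of_base {R₀ R : Type u} [CommRing R₀] [IsNoetherianRing R₀] [CommRing R] [Algebra R₀ R]
    {A₀ A : Type u} [CommRing A₀] [Algebra R₀ A₀] [Module.Flat R₀ A₀] [Algebra.FiniteType R₀ A₀] [CommRing A]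
    [Bialgebra R A] [Algebra R₀ A] [IsScalarTower R₀ R A] (ι₀ : A₀ →ₐ[R₀] A)
    (hι₀ : IsBaseChange R ι₀.toLinearMap) :
    ∃ (n : ℕ) (v : Fin n → A) (a : Fin n → Fin n → A), Algebra.adjoin R (Set.range v) = ⊤ ∧
      ∀ j, Coalgebra.comul (R := R) (v j) = ∑ i, v i ⊗ₜ[R] a i j := by
  classical
  obtain ⟨s₀, hs₀⟩ := (inferInstance : Algebra.FiniteType R₀ A₀).1
  choose c hc using fun x : A₀ => Finsupp.mem_span_range_iff_exists_finsupp.mp
    (span_pair ι₀ hι₀ (Coalgebra.comul (R := R) (ι₀ x)))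
  let S : Finset R :=
    s₀.biUnion fun x => (c x).support.image (c x) ∪ {Coalgebra.counit (R := R) (ι₀ x)}
  let R₁ : Subalgebra R₀ R := Algebra.adjoin R₀ (S : Set R)
  haveI : Algebra.FiniteType R₀ R₁ := (Subalgebra.fg_iff_finiteType R₁).mp ⟨S, rfl⟩
  haveI : IsNoetherianRing R₁ := Algebra.FiniteType.isNoetherianRing R₀ R₁
  have hs₁ : Algebra.adjoin R₁ ((s₀.image fun x => (1 : R₁) ⊗ₜ[R₀] x : Finset (R₁ ⊗[R₀] A₀)) :
      Set (R₁ ⊗[R₀] A₀)) = ⊤ := by
    rw [Finset.coe_image]
    exact adjoin_model _ hs₀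
  refine exists_stable_of_model Subtype.val_injective (modelMap ι₀) (isBaseChange_modelMap ι₀ hι₀) _ hs₁
    (fun x hx => ?_) (fun x hx => ?_)
  · obtain ⟨x, hx₀, rfl⟩ := Finset.mem_image.mp hx
    rw [modelMap_one_tmul]
    show Coalgebra.comul (R := R) (ι₀ x) ∈ _
    rw [← hc x, Finsupp.sum]
    refine Subalgebra.sum_mem _ fun p hp => ?_
    have hmem : c x p ∈ R₁ := Algebra.subset_adjoin (Finset.mem_coe.mpr (Finset.mem_biUnion.mpr
      ⟨x, hx₀, Finset.mem_union_left _ (Finset.mem_image_of_mem _ hp)⟩))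
    refine ⟨((⟨c x p, hmem⟩ : R₁) ⊗ₜ[R₀] p.1) ⊗ₜ ((1 : R₁) ⊗ₜ[R₀] p.2), ?_⟩
    show pairAlg (R := R) (modelMap ι₀) (modelMap ι₀) _ = _
    rw [pairAlg_apply, pairMap_tmul, AlgHom.toLinearMap_apply, AlgHom.toLinearMap_apply, modelMap_one_tmul,
      modelMap_tmul (R := R), TensorProduct.smul_tmul']
    rfl
  · obtain ⟨x, hx₀, rfl⟩ := Finset.mem_image.mp hx
    rw [modelMap_one_tmul]
    exact ⟨⟨_, Algebra.subset_adjoin (Finset.mem_coe.mpr (Finset.mem_biUnion.mpr
      ⟨x, hx₀, Finset.mem_union_right _ (Finset.mem_singleton_self _)⟩))⟩, rfl⟩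

/-- A smooth bialgebra has generators spanning a subcomodule. -/
theorem exists_stable {R A : Type u} [CommRing R] [CommRing A] [Bialgebra R A] [Algebra.Smooth R A] :
    ∃ (n : ℕ) (v : Fin n → A) (a : Fin n → Fin n → A), Algebra.adjoin R (Set.range v) = ⊤ ∧
      ∀ j, Coalgebra.comul (R := R) (v j) = ∑ i, v i ⊗ₜ[R] a i j := by
  obtain ⟨R₀, A₀, _, _, hR₀, hA₀, ⟨e⟩⟩ := Algebra.Smooth.exists_subalgebra_fg ℤ R A
  haveI := hA₀
  haveI : IsNoetherianRing R₀ := isNoetherianRing_of_fg hR₀
  let ι₀ : A₀ →ₐ[R₀] A := (e.symm.toAlgHom.restrictScalars R₀).comp Algebra.TensorProduct.includeRight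
  exact exists_stable_of_base (R := R) ι₀ (IsBaseChange.of_equiv e.symm.toLinearEquiv fun x => rfl)

end Groth.Agent.Deform.HomMT
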