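import Groth.Agent.Deform.HomMT.Space
import Groth.Agent.Deform.HomMT.Bridge
import Groth.Agent.RepLocal.Glue
import Mathlib.AlgebraicGeometry.ValuativeCriterion

/-!
# The union of the charts classifies the homomorphisms

Over a member of a covering where `H` is split and `G` has coordinates by a smooth Hopf algebra, the union of the
charts carries the universal family of homomorphisms, and it is separated.
-/

set_option autoImplicit false
set_option linter.style.haveILetI false

universe u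

open CategoryTheory CategoryTheory.Limits MonoidalCategory CartesianMonoidalCategory MonObj GrpObj AlgebraicGeometry
open TensorProduct

namespace Groth.Agent.Deform.HomMT

open GrpSchLib GrpSchLib.DiagActionRigid DSPtsLib
open RepLocal (opOver opIncl opMap opMap_incl hom_ext_opens exists_glue_hom)

theorem isHomFamily_whisker {S : Scheme.{u}} {H G : Over S} [GrpObj H] [GrpObj G] {T T' : Over S} {φ : H ⊗ T ⟶ G}
    (h : AutFam.IsHomFamily H G φ) (a : T' ⟶ T) : AutFam.IsHomFamily H G ((H ◁ a) ≫ φ) := fun P g₁ g₂ t => by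
  rw [lift_whiskerLeft_assoc, lift_whiskerLeft_assoc, lift_whiskerLeft_assoc]
  exact h P g₁ g₂ (t ≫ a)

variable {S : Scheme.{u}} {R : Type u} [CommRing R] {H G : Over S} [GrpObj H] [GrpObj G]
  {β : Spec (CommRingCat.of R) ⟶ S} {M : Type} [AddCommGroup M] {A : Type u} [CommRing A] [HopfAlgebra R A]
  [Algebra.FinitePresentation R A] (K : Coords H G β M A) (D : Stable R A)

variable (β M) in
/-- The union of the charts over the base. -/
noncomputable abbrev spaceS : Over S := Over.mk (toBase D M ≫ β)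

variable (β M) in
/-- A chart in the union, over the base. -/
noncomputable def inclS (F : Finset M) : DiagActionRigid.sp β (chR D M F) ⟶ spaceS β M D :=
  Over.homMk (incl D M F) (by
    show incl D M F ≫ toBase D M ≫ β = Spec.map _ ≫ β
    rw [← Category.assoc, incl_toBase])

instance (F : Finset M) : Mono (inclS β M D F) :=
  haveI : Mono ((Over.forget S).map (inclS β M D F)) := inferInstanceAs (Mono (incl D M F))
  (Over.forget S).mono_of_mono_map ‹_›

theorem res_inclS {F F' : Finset M} (h : F ≤ F') :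
    spm β (res D M h) ≫ inclS β M D F' = inclS β M D F := Over.OverMorphism.ext (map_incl D M h)

/-- Morphisms over the base landing in a chart factor through it. -/
theorem exists_lift_inclS {X : Over S} (u : X ⟶ spaceS β M D) (F : Finset M)
    (hr : Set.range u.left ⊆ Set.range (incl D M F)) :
    ∃ r : X ⟶ DiagActionRigid.sp β (chR D M F), r ≫ inclS β M D F = u := by
  refine ⟨Over.homMk (IsOpenImmersion.lift (incl D M F) u.left hr) ?_,
    Over.OverMorphism.ext (IsOpenImmersion.lift_fac _ _ _)⟩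
  show IsOpenImmersion.lift _ u.left hr ≫ Spec.map _ ≫ β = X.hom
  rw [← incl_toBase, Category.assoc, IsOpenImmersion.lift_fac_assoc]
  exact Over.w u

/-- The pieces of the universal family. -/
theorem exists_univ_family : ∃ υ : H ⊗ spaceS β M D ⟶ G,
    ∀ F : Finset M, (H ◁ inclS β M D F) ≫ υ = fam K _ (chψ D M F) := by
  classical
  let T := H ⊗ spaceS β M D
  let O : ULift.{u} (Finset M) → T.left.Opens := fun F => (snd H (spaceS β M D)).left ⁻¹ᵁ (incl D M F.down).opensRange
  have hO : ∀ x, ∃ F, x ∈ O F := fun x =>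
    let ⟨F, hF⟩ := exists_mem_range D M ((snd H (spaceS β M D)).left x)
    ⟨⟨F⟩, hF⟩
  choose r hr using fun F => exists_lift_inclS D (opIncl T (O F) ≫ snd _ _) F.down (by
    rintro _ ⟨x, rfl⟩
    rw [Over.comp_left, Scheme.Hom.comp_apply]
    exact x.2)
  obtain ⟨υ, hυ⟩ := exists_glue_hom O hO
    (fun F => lift (opIncl T (O F) ≫ fst _ _) (r F) ≫ fam K _ (chψ D M F.down)) fun F F' => by
    obtain ⟨r', hr'⟩ := exists_lift_inclS D (opIncl T (O F ⊓ O F') ≫ snd _ _) (F.down ∩ F'.down) (by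
      rintro _ ⟨x, rfl⟩
      rw [Over.comp_left, Scheme.Hom.comp_apply]
      exact mem_range_inter D M x.2.1 x.2.2)
    have key : ∀ (F₁ : ULift.{u} (Finset M)) (hle : F.down ∩ F'.down ≤ F₁.down) (w : O F ⊓ O F' ≤ O F₁),
        opMap T w ≫ lift (opIncl T (O F₁) ≫ fst _ _) (r F₁) ≫ fam K _ (chψ D M F₁.down) =
          lift (opIncl T (O F ⊓ O F') ≫ fst _ _) r' ≫ fam K _ (chψ D M (F.down ∩ F'.down)) := by
      intro F₁ hle w
      have e : opMap T w ≫ r F₁ = r' ≫ spm β (res D M hle) := by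
        rw [← cancel_mono (inclS β M D F₁.down), Category.assoc, hr, Category.assoc, res_inclS, hr', ← Category.assoc,
          opMap_incl]
      rw [comp_lift_assoc, ← Category.assoc (opMap T w), opMap_incl, e,
        ← lift_whiskerLeft_assoc, whisker_fam, res_spec]
    rw [key F Finset.inter_subset_left inf_le_left, key F' Finset.inter_subset_right inf_le_right]
  refine ⟨υ, fun F => ?_⟩
  let P := H ⊗ DiagActionRigid.sp β (chR D M F)
  have hrg : Set.range (H ◁ inclS β M D F).left ⊆ Set.range (O ⟨F⟩).ι := by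
    rintro _ ⟨x, rfl⟩
    rw [Scheme.Opens.range_ι]
    show ((H ◁ inclS β M D F) ≫ snd H (spaceS β M D)).left x ∈ Set.range (incl D M F)
    rw [whiskerLeft_snd, Over.comp_left, Scheme.Hom.comp_apply]
    exact ⟨_, rfl⟩
  let b : P ⟶ opOver T (O ⟨F⟩) := Over.homMk (IsOpenImmersion.lift (O ⟨F⟩).ι _ hrg) (by
    show _ ≫ (O ⟨F⟩).ι ≫ T.hom = P.hom
    rw [IsOpenImmersion.lift_fac_assoc]
    exact Over.w (H ◁ inclS β M D F))
  have hb : b ≫ opIncl T (O ⟨F⟩) = H ◁ inclS β M D F := Over.OverMorphism.ext (IsOpenImmersion.lift_fac _ _ _)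
  rw [← hb, Category.assoc, hυ]
  have e1 : b ≫ r ⟨F⟩ = snd _ _ := by
    rw [← cancel_mono (inclS β M D F), Category.assoc, hr, ← Category.assoc, hb, whiskerLeft_snd]
  rw [comp_lift_assoc, ← Category.assoc b, hb, whiskerLeft_fst, e1, lift_fst_snd, Category.id_comp]

variable {K D} {υ : H ⊗ spaceS β M D ⟶ G}
  (hυ : ∀ F : Finset M, (H ◁ inclS β M D F) ≫ υ = fam K _ (chψ D M F))

include hυ in
theorem isHomFamily_univ : AutFam.IsHomFamily H G υ := by
  intro X g₁ g₂ t
  refine hom_ext_opens (fun F : ULift.{u} (Finset M) => t.left ⁻¹ᵁ (incl D M F.down).opensRange) (fun x =>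
    let ⟨F, hF⟩ := exists_mem_range D M (t.left x)
    ⟨⟨F⟩, hF⟩) fun F => ?_
  obtain ⟨r, hr⟩ := exists_lift_inclS D (opIncl X (t.left ⁻¹ᵁ (incl D M F.down).opensRange) ≫ t) F.down (by
    rintro _ ⟨x, rfl⟩
    rw [Over.comp_left, Scheme.Hom.comp_apply]
    exact x.2)
  simp only [MonObj.comp_mul, comp_lift_assoc]
  rw [← hr, ← lift_whiskerLeft_assoc, ← lift_whiskerLeft_assoc, ← lift_whiskerLeft_assoc, hυ]
  exact (isHomFamily_fam K _).mpr (chψ_mult D M F.down) _ _ _ r

include hυ in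
/-- Points of a chart are determined by their families. -/
theorem ext_chart {B : Type u} [CommRing B] [Algebra R B] {v w : DiagActionRigid.sp β B ⟶ spaceS β M D}
    (hv : v.left ≫ toBase D M = Spec.map (CommRingCat.ofHom (algebraMap R B)))
    (hw : w.left ≫ toBase D M = Spec.map (CommRingCat.ofHom (algebraMap R B)))
    (F : Finset M) (hvr : Set.range v.left ⊆ Set.range (incl D M F))
    (hwr : Set.range w.left ⊆ Set.range (incl D M F)) (h : (H ◁ v) ≫ υ = (H ◁ w) ≫ υ) : v = w := by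
  have key : ∀ u : DiagActionRigid.sp β B ⟶ spaceS β M D,
      u.left ≫ toBase D M = Spec.map (CommRingCat.ofHom (algebraMap R B)) →
      Set.range u.left ⊆ Set.range (incl D M F) → ∃ σ : chR D M F →ₐ[R] B, u = spm β σ ≫ inclS β M D F := by
    intro u hu hr
    obtain ⟨r, hr⟩ := exists_lift_inclS D u F hr
    obtain ⟨τ, hτ⟩ : ∃ τ, Spec.map τ = r.left := ⟨_, Spec.map_preimage _⟩
    have hc : Spec.map τ ≫ Spec.map (CommRingCat.ofHom (algebraMap R (chR D M F))) =
        Spec.map (CommRingCat.ofHom (algebraMap R B)) := by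
      rw [hτ, ← incl_toBase, ← Category.assoc,
        show r.left ≫ incl D M F = u.left from congrArg CommaMorphism.left hr, hu]
    rw [← Spec.map_comp] at hc
    refine ⟨{ τ.hom with commutes' := fun x => congr($(Spec.map_injective hc) x) }, ?_⟩
    rw [← hr]
    congr 1
    exact Over.OverMorphism.ext hτ.symm
  obtain ⟨σ, rfl⟩ := key v hv hvr
  obtain ⟨τ, rfl⟩ := key w hw hwr
  rw [whiskerLeft_comp_assoc, whiskerLeft_comp_assoc, hυ, whisker_fam, whisker_fam] at h
  rw [chψ_ext D M ((fam_bijective K B).1 h)]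

/-- An affine open as a test scheme. -/
theorem exists_test {T : Over S} (x : T.left ⟶ Spec (CommRingCat.of R)) (hx : x ≫ β = T.hom) (W : T.left.Opens)
    (hW : IsAffineOpen W) :
    ∃ (B : Type u) (_ : CommRing B) (_ : Algebra R B) (e : DiagActionRigid.sp β B ⟶ T)
      (e' : opOver T W ⟶ DiagActionRigid.sp β B),
      e.left ≫ x = Spec.map (CommRingCat.ofHom (algebraMap R B)) ∧ e' ≫ e = opIncl T W ∧
        Set.range e.left = W := by
  obtain ⟨τ, hτ⟩ : ∃ τ, Spec.map τ = hW.fromSpec ≫ x := ⟨_, Spec.map_preimage _⟩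
  let B : Type u := Γ(T.left, W)
  letI : Algebra R B := τ.hom.toAlgebra
  have hB : Spec.map (CommRingCat.ofHom (algebraMap R B)) = hW.fromSpec ≫ x := hτ
  refine ⟨B, inferInstance, inferInstance, Over.homMk hW.fromSpec ?_, Over.homMk hW.isoSpec.hom ?_, hB.symm,
    Over.OverMorphism.ext hW.isoSpec_hom_fromSpec, hW.range_fromSpec⟩
  · show hW.fromSpec ≫ T.hom = Spec.map _ ≫ β
    rw [hB, Category.assoc, hx]
  · show hW.isoSpec.hom ≫ Spec.map _ ≫ β = W.ι ≫ T.hom
    rw [hB, Category.assoc, hx, IsAffineOpen.isoSpec_hom_fromSpec_assoc]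

include hυ in
/-- Points are determined by their families. -/
theorem ext_pt {T : Over S} {v w : T ⟶ spaceS β M D} (h₁ : v.left ≫ toBase D M = w.left ≫ toBase D M)
    (h₂ : (H ◁ v) ≫ υ = (H ◁ w) ≫ υ) : v = w := by
  classical
  let κ : Type u := {W : T.left.affineOpens // ∃ F : Finset M,
    (∀ x ∈ W.1, v.left x ∈ Set.range (incl D M F)) ∧ ∀ x ∈ W.1, w.left x ∈ Set.range (incl D M F)}
  refine hom_ext_opens (fun k : κ => k.1.1) (fun x => ?_) fun k => ?_
  · obtain ⟨F, hF⟩ := exists_mem_range D M (v.left x)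
    obtain ⟨F', hF'⟩ := exists_mem_range D M (w.left x)
    obtain ⟨W, hW, hxW, hle⟩ := exists_isAffineOpen_mem_and_subset
      (show x ∈ v.left ⁻¹ᵁ (incl D M F).opensRange ⊓ w.left ⁻¹ᵁ (incl D M F').opensRange from ⟨hF, hF'⟩)
    exact ⟨⟨⟨W, hW⟩, F ∪ F', fun y hy => range_mono D M Finset.subset_union_left (hle hy).1,
      fun y hy => range_mono D M Finset.subset_union_right (hle hy).2⟩, hxW⟩
  · obtain ⟨F, hv, hw⟩ := k.2
    obtain ⟨B, _, _, e, e', he, hee, hrg⟩ := exists_test (v.left ≫ toBase D M)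
      ((Category.assoc _ _ _).trans (Over.w v)) k.1.1 k.1.2
    rw [← hee, Category.assoc, Category.assoc]
    congr 1
    refine ext_chart hυ he (by rw [Over.comp_left, Category.assoc, ← h₁]; exact he) F ?_ ?_ ?_
    · rintro _ ⟨y, rfl⟩
      rw [Over.comp_left, Scheme.Hom.comp_apply]
      exact hv _ (hrg.subset ⟨y, rfl⟩)
    · rintro _ ⟨y, rfl⟩
      rw [Over.comp_left, Scheme.Hom.comp_apply]
      exact hw _ (hrg.subset ⟨y, rfl⟩)
    · rw [whiskerLeft_comp_assoc, whiskerLeft_comp_assoc, h₂]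

include hυ in
/-- The universal property. -/
theorem existsUnique_pt {T : Over S} (x : T.left ⟶ Spec (CommRingCat.of R)) (hx : x ≫ β = T.hom) (φ : H ⊗ T ⟶ G)
    (hφ : AutFam.IsHomFamily H G φ) :
    ∃! v : T ⟶ spaceS β M D, v.left ≫ toBase D M = x ∧ (H ◁ v) ≫ υ = φ := by
  have loc : ∀ W : T.left.affineOpens, ∃ v : opOver T W.1 ⟶ spaceS β M D,
      v.left ≫ toBase D M = W.1.ι ≫ x ∧ (H ◁ v) ≫ υ = (H ◁ opIncl T W.1) ≫ φ := by
    intro W
    obtain ⟨B, _, _, e, e', he, hee, -⟩ := exists_test x hx W.1 W.2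
    obtain ⟨ψ, hψ⟩ := (fam_bijective K B).2 ((H ◁ e) ≫ φ)
    have hm : Mult ψ := (isHomFamily_fam K ψ).mp (hψ ▸ isHomFamily_whisker hφ e)
    obtain ⟨σ, hσ, -⟩ := chψ_existsUnique D M (suppA D ψ) ψ hm (good_suppA D ψ)
    refine ⟨e' ≫ spm β σ ≫ inclS β M D (suppA D ψ), ?_, ?_⟩
    · rw [show W.1.ι = e'.left ≫ e.left from (congrArg CommaMorphism.left hee).symm]
      simp only [Over.comp_left, Category.assoc, he]
      congr 1
      show Spec.map _ ≫ incl D M _ ≫ toBase D M = _
      rw [incl_toBase, ← Spec.map_comp, ← CommRingCat.ofHom_comp]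
      congr 2
      exact σ.comp_algebraMap
    · rw [whiskerLeft_comp_assoc, whiskerLeft_comp_assoc, hυ, whisker_fam, hσ, hψ, ← whiskerLeft_comp_assoc, hee]
  choose v hv₁ hv₂ using loc
  have hcov : ∀ p : T.left, ∃ W : T.left.affineOpens, p ∈ W.1 := fun p => by
    obtain ⟨W, hW, hp, -⟩ := exists_isAffineOpen_mem_and_subset (show p ∈ (⊤ : T.left.Opens) from trivial)
    exact ⟨⟨W, hW⟩, hp⟩
  obtain ⟨w, hw⟩ := exists_glue_hom (fun W : T.left.affineOpens => W.1) hcov v fun W W' => by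
    refine ext_pt hυ ?_ ?_
    · rw [Over.comp_left, Over.comp_left, Category.assoc, Category.assoc, hv₁, hv₁]
      simp only [Over.homMk_left, Scheme.homOfLE_ι_assoc]
    · rw [whiskerLeft_comp_assoc, whiskerLeft_comp_assoc, hv₂, hv₂, ← whiskerLeft_comp_assoc,
        ← whiskerLeft_comp_assoc, opMap_incl, opMap_incl]
  have h₁ : w.left ≫ toBase D M = x := by
    refine Scheme.Cover.hom_ext (T.left.openCoverOfIsOpenCover (fun W : T.left.affineOpens => W.1) (by
      rw [TopologicalSpace.IsOpenCover, eq_top_iff]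
      exact fun p _ => TopologicalSpace.Opens.mem_iSup.mpr (hcov p))) _ _ fun W => ?_
    show W.1.ι ≫ w.left ≫ toBase D M = W.1.ι ≫ x
    rw [← Category.assoc, show W.1.ι ≫ w.left = (v W).left from congrArg CommaMorphism.left (hw W)]
    exact hv₁ W
  have h₂ : (H ◁ w) ≫ υ = φ := by
    refine hom_ext_opens (fun W : T.left.affineOpens => (snd H T).left ⁻¹ᵁ W.1) (fun z => hcov _) fun W => ?_
    let U := (snd H T).left ⁻¹ᵁ W.1
    have hr : Set.range (U.ι ≫ (snd H T).left) ⊆ Set.range W.1.ι := by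
      rintro _ ⟨z, rfl⟩
      rw [Scheme.Opens.range_ι]
      exact z.2
    let r : opOver (H ⊗ T) U ⟶ opOver T W.1 := Over.homMk (IsOpenImmersion.lift W.1.ι _ hr) (by
      show _ ≫ W.1.ι ≫ T.hom = U.ι ≫ (H ⊗ T).hom
      rw [IsOpenImmersion.lift_fac_assoc, Category.assoc, Over.w])
    have hr' : r ≫ opIncl T W.1 = opIncl (H ⊗ T) U ≫ snd H T :=
      Over.OverMorphism.ext (IsOpenImmersion.lift_fac _ _ _)
    have e : opIncl (H ⊗ T) U = lift (opIncl (H ⊗ T) U ≫ fst H T) r ≫ (H ◁ opIncl T W.1) := by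
      rw [lift_whiskerLeft, hr', ← comp_lift, lift_fst_snd, Category.comp_id]
    rw [e, Category.assoc, Category.assoc, ← whiskerLeft_comp_assoc, hw W, hv₂ W]
  exact ⟨w, ⟨h₁, h₂⟩, fun w' hw' => ext_pt hυ (hw'.1.trans h₁.symm) (hw'.2.trans h₂.symm)⟩

theorem push_injective {B B' : Type u} [CommRing B] [Algebra R B] [CommRing B'] [Algebra R B'] (σ : B →ₐ[R] B')
    (h : Function.Injective σ) : Function.Injective (push (M := M) σ) := fun x y e => by
  ext k
  exact h (by simpa [push] using congrArg (fun z : MA M B' => z.coeff k) e)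

variable (K D) in
include K in
/-- The union of the charts is separated over the ring. -/
theorem isSeparated_toBase : IsSeparated (toBase D M) := by
  obtain ⟨υ, hυ⟩ := exists_univ_family K D
  haveI := quasiSeparated_toBase D M
  refine IsSeparated.of_valuativeCriterion _ fun Sq => ⟨fun l l' => ?_⟩
  letI : Algebra R Sq.R := (Spec.preimage Sq.i₂).hom.toAlgebra
  letI : Algebra R Sq.K := ((algebraMap Sq.R Sq.K).comp (algebraMap R Sq.R)).toAlgebra
  haveI : IsScalarTower R Sq.R Sq.K := IsScalarTower.of_algebraMap_eq' rfl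
  have hi₂ : Spec.map (CommRingCat.ofHom (algebraMap R Sq.R)) = Sq.i₂ := Spec.map_preimage Sq.i₂
  let mk' : ∀ m : Spec (CommRingCat.of Sq.R) ⟶ space D M, m ≫ toBase D M = Sq.i₂ →
      (DiagActionRigid.sp β Sq.R ⟶ spaceS β M D) := fun m hm => Over.homMk m (by
    show m ≫ toBase D M ≫ β = Spec.map _ ≫ β
    rw [hi₂, ← Category.assoc, hm])
  let j : Sq.R →ₐ[R] Sq.K := IsScalarTower.toAlgHom R Sq.R Sq.K
  have hj : Function.Injective j := IsFractionRing.injective Sq.R Sq.K
  obtain ⟨ψ, hψ⟩ := (fam_bijective K Sq.R).2 ((H ◁ mk' l.l l.fac_right) ≫ υ)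
  obtain ⟨ψ', hψ'⟩ := (fam_bijective K Sq.R).2 ((H ◁ mk' l'.l l'.fac_right) ≫ υ)
  have e : spm β j ≫ mk' l.l l.fac_right = spm β j ≫ mk' l'.l l'.fac_right :=
    Over.OverMorphism.ext (l.fac_left.trans l'.fac_left.symm)
  have hK : (push j).comp ψ = (push j).comp ψ' := by
    refine (fam_bijective K Sq.K).1 ?_
    rw [← whisker_fam, ← whisker_fam, hψ, hψ', ← whiskerLeft_comp_assoc, ← whiskerLeft_comp_assoc, e]
  have hψψ : ψ = ψ' := AlgHom.ext fun x => push_injective j hj (DFunLike.congr_fun hK x)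
  refine CommSq.LiftStruct.ext ?_
  refine congrArg CommaMorphism.left (ext_pt hυ (v := mk' l.l l.fac_right) (w := mk' l'.l l'.fac_right) ?_ ?_)
  · show l.l ≫ toBase D M = l'.l ≫ toBase D M
    rw [l.fac_right, l'.fac_right]
  · rw [← hψ, ← hψ', hψψ]

end Groth.Agent.Deform.HomMT
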